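import Mathlib.Algebra.Homology.GrothendieckAbelian
import Mathlib.Algebra.Homology.HomotopyCategory.Acyclic
import Mathlib.CategoryTheory.Abelian.GrothendieckCategory.Basic
import Mathlib.CategoryTheory.Abelian.Refinements
import Mathlib.CategoryTheory.Abelian.Exact
import Mathlib.CategoryTheory.Functor.OfSequence
import Mathlib.CategoryTheory.Subobject.Limits
import Mathlib.Algebra.Homology.ShortComplex.PreservesHomology

/-!
In a Grothendieck abelian category every nonzero acyclic complex has a nonzero acyclic subcomplex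
whose terms are quotients of one fixed object.
-/

universe v u

open CategoryTheory Limits

namespace Groth.Agent.Resolve

variable {A : Type u} [Category.{v} A] [Abelian A] [IsGrothendieckAbelian.{v} A]

instance (ι : Type v) (f : ι → A) : HasCoproduct f :=
  haveI : HasCoproducts.{v} A := hasCoproducts_of_finite_and_filtered
  inferInstance

variable (A) in
/-- The index types of the construction. -/
noncomputable def T : ℕ → Type v
  | 0 => PUnit
  | k + 1 => T k ⊕ (T k ⊕ Shrink.{v} (Subobject (∐ fun _ : T k => separator A)))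

variable (A) in
/-- Coproducts of the generator. -/
noncomputable abbrev D (k : ℕ) : A := ∐ fun _ : T A k => separator A

/-- The old indices. -/
def old {k : ℕ} (t : T A k) : T A (k + 1) := Sum.inl t

/-- The indices of the differentials. -/
def nxt {k : ℕ} (t : T A k) : T A (k + 1) := Sum.inr (Sum.inl t)

/-- The indices of the new generators. -/
def sel {k : ℕ} (S : Shrink.{v} (Subobject (D A k))) : T A (k + 1) := Sum.inr (Sum.inr S)

variable (A) in
/-- The inclusion of a generator. -/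
noncomputable def ιD (k : ℕ) (t : T A k) : separator A ⟶ D A k :=
  Sigma.ι (fun _ : T A k => separator A) t

variable (A) in
/-- The transition maps. -/
noncomputable def step (k : ℕ) : D A k ⟶ D A (k + 1) :=
  Sigma.desc fun t ↦ ιD A (k + 1) (old t)

variable (A) in
/-- The sequence of the coproducts. -/
noncomputable def Dfun : ℕ ⥤ A :=
  Functor.ofSequence (X := D A) (step A)

variable (A) in
/-- The bound on the terms of the small acyclic complexes. -/
noncomputable abbrev Dinf : A := colimit (Dfun A)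

variable (A) in
/-- The stages map to the bound. -/
noncomputable def ιk (k : ℕ) : D A k ⟶ Dinf A := colimit.ι (Dfun A) k

lemma Dinf_hom_ext {X : A} {f g : Dinf A ⟶ X} (h : ∀ k, ιk A k ≫ f = ιk A k ≫ g) : f = g :=
  colimit.hom_ext h

/-- A complex all whose terms are quotients of `Dinf`. -/
def IsSmallCx (Y : CochainComplex A ℤ) : Prop :=
  ∀ n, ∃ p : Dinf A ⟶ Y.X n, Epi p

section

variable (C : CochainComplex A ℤ) (hC : C.Acyclic)

include hC in
lemma exists_lift_cycles (n : ℤ) {Z : A} (x : Z ⟶ C.X (n + 1))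
    (hx : x ≫ C.d (n + 1) (n + 1 + 1) = 0) :
    ∃ (P : A) (π : P ⟶ Z) (_ : Epi π) (y : P ⟶ C.X n), π ≫ x = y ≫ C.d n (n + 1) := by
  have h := hC (n + 1)
  rw [C.exactAt_iff' n (n + 1) (n + 1 + 1) (by simp) (by simp)] at h
  exact h.exact_up_to_refinements x hx

variable {C}

/-- The new generators in degree `n`, given those in degree `n + 1`. -/
noncomputable def choice {k : ℕ} (n : ℤ) (φ : D A k ⟶ C.X (n + 1))
    (S : Shrink.{v} (Subobject (D A k))) : separator A ⟶ C.X n :=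
  let h := exists_lift_cycles C hC n
    (kernel.ι (φ ≫ C.d (n + 1) (n + 1 + 1)) ≫ φ) (by simp)
  open Classical in
  if hS : ∃ g : separator A ⟶ h.choose, imageSubobject (g ≫ h.choose_spec.choose ≫
      kernel.ι (φ ≫ C.d (n + 1) (n + 1 + 1))) = (equivShrink _).symm S then
    hS.choose ≫ h.choose_spec.choose_spec.choose_spec.choose
  else 0

lemma choice_spec {k : ℕ} (n : ℤ) (φ : D A k ⟶ C.X (n + 1)) {Q : A} (q : C.X (n + 1) ⟶ Q)
    (hq : ∀ S, choice hC n φ S ≫ C.d n (n + 1) ≫ q = 0) :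
    kernel.ι (φ ≫ C.d (n + 1) (n + 1 + 1)) ≫ φ ≫ q = 0 := by
  let K := kernel.ι (φ ≫ C.d (n + 1) (n + 1 + 1))
  let h := exists_lift_cycles C hC n (K ≫ φ) (by simp [K])
  let π := h.choose_spec.choose
  let y := h.choose_spec.choose_spec.choose_spec.choose
  have hy : π ≫ K ≫ φ = y ≫ C.d n (n + 1) := h.choose_spec.choose_spec.choose_spec.choose_spec
  haveI : Epi π := h.choose_spec.choose_spec.choose
  rw [← cancel_epi π, comp_zero]
  refine (isSeparator_separator A).def _ _ fun g ↦ ?_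
  rw [comp_zero]
  obtain ⟨S, hS⟩ : ∃ S, (equivShrink _).symm S = imageSubobject (g ≫ π ≫ K) :=
    ⟨equivShrink _ _, Equiv.symm_apply_apply _ _⟩
  have hex : ∃ g' : separator A ⟶ h.choose, imageSubobject (g' ≫ π ≫ K) =
      (equivShrink _).symm S := ⟨g, hS.symm⟩
  have h1 : (hex.choose ≫ y) ≫ C.d n (n + 1) ≫ q = 0 := by
    have := hq S
    rw [choice] at this
    rw [dif_pos hex] at this
    exact this
  have h2 : (hex.choose ≫ π ≫ K) ≫ φ ≫ q = 0 := by
    simpa [reassoc_of% hy] using h1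
  rw [← imageSubobject_arrow_comp (hex.choose ≫ π ≫ K), Category.assoc] at h2
  have h3 : (imageSubobject (hex.choose ≫ π ≫ K)).arrow ≫ φ ≫ q = 0 := by
    rw [← cancel_epi (factorThruImageSubobject (hex.choose ≫ π ≫ K)), h2, comp_zero]
  rw [hex.choose_spec, hS] at h3
  have := imageSubobject_arrow_comp (g ≫ π ≫ K)
  change g ≫ π ≫ K ≫ φ ≫ q = 0
  rw [← reassoc_of% this, h3, comp_zero]

/-- The generators of the subcomplex. -/
noncomputable def gens (n₀ : ℤ) (g₀ : separator A ⟶ C.X n₀) :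
    ∀ (k : ℕ) (n : ℤ), D A k ⟶ C.X n
  | 0, n => Sigma.desc fun _ ↦
      if h : n₀ = n then g₀ ≫ eqToHom (by rw [h]) else 0
  | k + 1, n => Sigma.desc fun t ↦
      match t with
      | .inl t => ιD A k t ≫ gens n₀ g₀ k n
      | .inr (.inl t) => ιD A k t ≫ gens n₀ g₀ k (n - 1) ≫ C.d (n - 1) n
      | .inr (.inr S) => choice hC n (gens n₀ g₀ k (n + 1)) S

lemma gens_old (n₀ : ℤ) (g₀ : separator A ⟶ C.X n₀) (k : ℕ) (n : ℤ) (t : T A k) :
    ιD A (k + 1) (old t) ≫ gens hC n₀ g₀ (k + 1) n = ιD A k t ≫ gens hC n₀ g₀ k n := by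
  rw [gens]; exact Sigma.ι_desc _ _

lemma gens_nxt (n₀ : ℤ) (g₀ : separator A ⟶ C.X n₀) (k : ℕ) (m n : ℤ) (h : m + 1 = n) (t : T A k) :
    ιD A (k + 1) (nxt t) ≫ gens hC n₀ g₀ (k + 1) n =
      ιD A k t ≫ gens hC n₀ g₀ k m ≫ C.d m n := by
  obtain rfl : m = n - 1 := by lia
  rw [gens]; exact Sigma.ι_desc _ _

lemma gens_sel (n₀ : ℤ) (g₀ : separator A ⟶ C.X n₀) (k : ℕ) (n : ℤ)
    (S : Shrink.{v} (Subobject (D A k))) :
    ιD A (k + 1) (sel S) ≫ gens hC n₀ g₀ (k + 1) n =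
      choice hC n (gens hC n₀ g₀ k (n + 1)) S := by
  rw [gens]; exact Sigma.ι_desc _ _

lemma step_gens (n₀ : ℤ) (g₀ : separator A ⟶ C.X n₀) (k : ℕ) (n : ℤ) :
    step A k ≫ gens hC n₀ g₀ (k + 1) n = gens hC n₀ g₀ k n := by
  refine Sigma.hom_ext _ _ fun t ↦ ?_
  rw [step, Sigma.ι_desc_assoc]
  exact gens_old hC n₀ g₀ k n t

/-- The generators as a cocone. -/
noncomputable def gensCocone (n₀ : ℤ) (g₀ : separator A ⟶ C.X n₀) (n : ℤ) : Cocone (Dfun A) where
  pt := C.X n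
  ι := NatTrans.ofSequence (F := Dfun A) (G := (Functor.const ℕ).obj (C.X n))
    (fun k ↦ gens hC n₀ g₀ k n) (fun k ↦ by
      dsimp [Dfun]
      rw [Functor.ofSequence_map_homOfLE_succ, Category.comp_id]
      exact step_gens hC n₀ g₀ k n)

/-- The induced map from `Dinf`. -/
noncomputable def θ (n₀ : ℤ) (g₀ : separator A ⟶ C.X n₀) (n : ℤ) : Dinf A ⟶ C.X n :=
  colimit.desc (Dfun A) (gensCocone hC n₀ g₀ n)

@[reassoc]
lemma ι_θ (n₀ : ℤ) (g₀ : separator A ⟶ C.X n₀) (n : ℤ) (k : ℕ) :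
    ιk A k ≫ θ hC n₀ g₀ n = gens hC n₀ g₀ k n :=
  colimit.ι_desc (gensCocone hC n₀ g₀ n) k

lemma θ_d (n₀ : ℤ) (g₀ : separator A ⟶ C.X n₀) (n : ℤ) {Q : A} (q : C.X (n + 1) ⟶ Q)
    (hq : θ hC n₀ g₀ (n + 1) ≫ q = 0) : θ hC n₀ g₀ n ≫ C.d n (n + 1) ≫ q = 0 := by
  refine Dinf_hom_ext fun k ↦ ?_
  rw [comp_zero, ι_θ_assoc]
  refine Sigma.hom_ext _ _ fun t ↦ ?_
  change ιD A k t ≫ _ = ιD A k t ≫ 0
  rw [comp_zero, ← Category.assoc (gens hC n₀ g₀ k n), ← Category.assoc (ιD A k t),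
    ← gens_nxt hC n₀ g₀ k n (n + 1) rfl t, ← ι_θ hC n₀ g₀ (n + 1) (k + 1)]
  simp only [Category.assoc, hq, comp_zero]

lemma colim_preservesHomology : (colim : (ℕ ⥤ A) ⥤ A).PreservesHomology := by
  haveI : HasFilteredColimitsOfSize.{0, 0} A := hasFilteredColimitsOfSize_of_univLE.{0, 0, v, v}
  haveI : AB5OfSize.{0, 0} A := AB5OfSize_of_univLE.{0, 0, v, v} A
  haveI : HasExactColimitsOfShape ℕ A := inferInstance
  infer_instance

lemma θ_cycles (n₀ : ℤ) (g₀ : separator A ⟶ C.X n₀) (n : ℤ) {Q : A} (q : C.X (n + 1) ⟶ Q)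
    (hq : θ hC n₀ g₀ n ≫ C.d n (n + 1) ≫ q = 0) {Z : A} (x : Z ⟶ Dinf A)
    (hx : x ≫ θ hC n₀ g₀ (n + 1) ≫ C.d (n + 1) (n + 1 + 1) = 0) :
    x ≫ θ hC n₀ g₀ (n + 1) ≫ q = 0 := by
  let α : Dfun A ⟶ (Functor.const ℕ).obj (C.X (n + 1 + 1)) :=
    (gensCocone hC n₀ g₀ (n + 1)).ι ≫ (Functor.const ℕ).map (C.d (n + 1) (n + 1 + 1))
  have hα : ∀ k, α.app k = gens hC n₀ g₀ k (n + 1) ≫ C.d (n + 1) (n + 1 + 1) := fun k ↦ rfl
  let S : ShortComplex (ℕ ⥤ A) := ShortComplex.mk (kernel.ι α) α (kernel.condition α)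
  have hS : S.Exact := ShortComplex.exact_of_f_is_kernel _ (kernelIsKernel α)
  haveI := colim_preservesHomology (A := A)
  have hS' : (S.map colim).Exact := hS.map colim
  let c₀ : Cocone ((Functor.const ℕ).obj (C.X (n + 1 + 1))) := ⟨C.X (n + 1 + 1), 𝟙 _⟩
  let δ : colimit ((Functor.const ℕ).obj (C.X (n + 1 + 1))) ⟶ C.X (n + 1 + 1) := colimit.desc _ c₀
  have hδ : δ ≫ colimit.ι ((Functor.const ℕ).obj (C.X (n + 1 + 1))) 0 = 𝟙 _ := by
    refine colimit.hom_ext fun k ↦ ?_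
    refine (colimit.ι_desc_assoc c₀ k _).trans ?_
    simpa [c₀] using (colimit.w ((Functor.const ℕ).obj (C.X (n + 1 + 1)))
      (homOfLE (Nat.zero_le k))).symm
  have e : colimMap α ≫ δ = θ hC n₀ g₀ (n + 1) ≫ C.d (n + 1) (n + 1 + 1) := by
    refine Dinf_hom_ext fun k ↦ ?_
    rw [ι_θ_assoc]
    refine (ι_colimMap_assoc α k δ).trans ?_
    rw [hα]
    exact (congrArg ((gens hC n₀ g₀ k (n + 1) ≫ C.d _ _) ≫ ·) (colimit.ι_desc c₀ k)).trans
      (Category.comp_id _)
  have hx' : x ≫ colimMap α = 0 := by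
    have h1 := congrArg (· ≫ colimit.ι ((Functor.const ℕ).obj (C.X (n + 1 + 1))) 0) hx
    simp only [← e, Category.assoc] at h1
    rw [hδ] at h1
    simpa using h1
  obtain ⟨Z', π, hπ, z, hz⟩ := hS'.exact_up_to_refinements x hx'
  replace hz : π ≫ x = z ≫ colimMap (kernel.ι α) := hz
  rw [← cancel_epi π, comp_zero, reassoc_of% hz]
  refine (congrArg (z ≫ ·) ?_).trans comp_zero
  refine colimit.hom_ext fun k ↦ ?_
  refine Eq.trans ?_ comp_zero.symm
  refine (ι_colimMap_assoc (kernel.ι α) k _).trans ?_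
  let φ := gens hC n₀ g₀ k (n + 1) ≫ C.d (n + 1) (n + 1 + 1)
  let ka : (kernel α).obj k ⟶ D A k := (kernel.ι α).app k
  change ka ≫ ιk A k ≫ θ hC n₀ g₀ (n + 1) ≫ q = 0
  rw [ι_θ_assoc]
  have h0 : ka ≫ φ = 0 := NatTrans.congr_app (kernel.condition α) k
  rw [← kernel.lift_ι φ ka h0, Category.assoc, choice_spec hC n _ q fun S ↦ ?_, comp_zero]
  rw [← gens_sel, Category.assoc, ← ι_θ hC n₀ g₀ n (k + 1), Category.assoc, hq, comp_zero,
    comp_zero]

include hC in
/-- A nonzero acyclic complex contains a nonzero small acyclic subcomplex. -/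
lemma exists_small_sub (hne : ¬ IsZero C) :
    ∃ (Y : CochainComplex A ℤ) (i : Y ⟶ C), Mono i ∧ Y.Acyclic ∧ IsSmallCx Y ∧ ¬ IsZero Y := by
  obtain ⟨n₀, g₀, hg₀⟩ : ∃ (n : ℤ) (g : separator A ⟶ C.X n), g ≠ 0 := by
    by_contra h
    push Not at h
    refine hne ?_
    rw [IsZero.iff_id_eq_zero]
    ext n
    exact (isSeparator_separator A).def _ _ fun g ↦ by
      rw [h n (g ≫ _), h n (g ≫ _)]
  let I : ∀ n, A := fun n ↦ Abelian.image (θ hC n₀ g₀ n)
  have hd : ∀ n, (Abelian.image.ι (θ hC n₀ g₀ n) ≫ C.d n (n + 1)) ≫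
      cokernel.π (Abelian.image.ι (θ hC n₀ g₀ (n + 1))) = 0 := fun n ↦ by
    rw [← cancel_epi (Abelian.factorThruImage (θ hC n₀ g₀ n)), comp_zero, Category.assoc,
      ← Category.assoc, Abelian.image.fac]
    refine θ_d hC n₀ g₀ n _ ?_
    exact (congrArg (· ≫ cokernel.π _) (Abelian.image.fac (θ hC n₀ g₀ (n + 1)))).symm.trans
      (by rw [Category.assoc, cokernel.condition, comp_zero])
  let d : ∀ n, I n ⟶ I (n + 1) := fun n ↦ Abelian.monoLift _ _ (hd n)
  have hdι : ∀ n, d n ≫ Abelian.image.ι (θ hC n₀ g₀ (n + 1)) =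
      Abelian.image.ι (θ hC n₀ g₀ n) ≫ C.d n (n + 1) := fun n ↦ Abelian.monoLift_comp _ _ (hd n)
  have hdd : ∀ n, d n ≫ d (n + 1) = 0 := fun n ↦ by
    rw [← cancel_mono (Abelian.image.ι (θ hC n₀ g₀ (n + 1 + 1))), Category.assoc, hdι,
      reassoc_of% (hdι n), C.d_comp_d, comp_zero, zero_comp]
  let Y := CochainComplex.of I d hdd
  let i : Y ⟶ C :=
    { f := fun n ↦ Abelian.image.ι (θ hC n₀ g₀ n)
      comm' := fun a b h ↦ by
        obtain rfl : a + 1 = b := h
        simp [Y, hdι] }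
  haveI : ∀ n, Mono (i.f n) := fun n ↦ inferInstanceAs (Mono (Abelian.image.ι _))
  refine ⟨Y, i, HomologicalComplex.mono_of_mono_f _ inferInstance, ?_, ?_, ?_⟩
  · intro m
    obtain ⟨n, rfl⟩ : ∃ n, n + 1 = m := ⟨m - 1, by simp⟩
    rw [Y.exactAt_iff' n (n + 1) (n + 1 + 1) (by simp) (by simp),
      ShortComplex.exact_iff_exact_up_to_refinements]
    intro Z x₂ hx₂
    change Z ⟶ I (n + 1) at x₂
    change x₂ ≫ Y.d (n + 1) (n + 1 + 1) = 0 at hx₂
    simp only [Y, CochainComplex.of_d] at hx₂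
    obtain ⟨Z', π, hπ, x, hx⟩ :=
      surjective_up_to_refinements_of_epi (Abelian.factorThruImage (θ hC n₀ g₀ (n + 1))) x₂
    have hxθ : π ≫ x₂ ≫ Abelian.image.ι (θ hC n₀ g₀ (n + 1)) = x ≫ θ hC n₀ g₀ (n + 1) := by
      rw [reassoc_of% hx, Abelian.image.fac]
    let j := Abelian.image.ι (θ hC n₀ g₀ n) ≫ C.d n (n + 1)
    have hxd : x ≫ θ hC n₀ g₀ (n + 1) ≫ C.d (n + 1) (n + 1 + 1) = 0 := by
      rw [← reassoc_of% hxθ, ← hdι (n + 1), reassoc_of% hx₂, zero_comp, comp_zero]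
    have hq : (x ≫ θ hC n₀ g₀ (n + 1)) ≫ cokernel.π j = 0 := by
      rw [Category.assoc]
      refine θ_cycles hC n₀ g₀ n _ ?_ x hxd
      exact (congrArg (· ≫ C.d n (n + 1) ≫ cokernel.π j)
        (Abelian.image.fac (θ hC n₀ g₀ n))).symm.trans (by
          rw [Category.assoc, ← Category.assoc (Abelian.image.ι _), cokernel.condition, comp_zero])
    obtain ⟨Z'', π', hπ', w, hw⟩ :=
      (ShortComplex.exact_of_g_is_cokernel (ShortComplex.mk j (cokernel.π j) (cokernel.condition j))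
        (cokernelIsCokernel j)).exact_up_to_refinements (x ≫ θ hC n₀ g₀ (n + 1)) hq
    replace hw : π' ≫ x ≫ θ hC n₀ g₀ (n + 1) = w ≫ j := hw
    refine ⟨Z'', π' ≫ π, epi_comp _ _, w, ?_⟩
    change (π' ≫ π) ≫ x₂ = w ≫ Y.d n (n + 1)
    simp only [Y, CochainComplex.of_d]
    rw [← cancel_mono (Abelian.image.ι (θ hC n₀ g₀ (n + 1))), Category.assoc, Category.assoc,
      Category.assoc, hxθ, hw, hdι]
  · exact fun n ↦ ⟨Abelian.factorThruImage (θ hC n₀ g₀ n), inferInstance⟩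
  · intro hY
    apply hg₀
    have h1 : θ hC n₀ g₀ n₀ = 0 := by
      rw [← Abelian.image.fac (θ hC n₀ g₀ n₀)]
      have : i = 0 := hY.eq_of_src _ _
      rw [show Abelian.image.ι (θ hC n₀ g₀ n₀) = i.f n₀ from rfl, this]
      simp
    have h2 : Sigma.desc (fun _ : T A 0 => (if h : n₀ = n₀ then
        g₀ ≫ eqToHom (by rw [h]) else 0 : separator A ⟶ C.X n₀)) = 0 := by
      have h3 := ι_θ hC n₀ g₀ n₀ 0
      rw [h1, comp_zero, gens] at h3
      exact h3.symm
    have h4 := congrArg (Sigma.ι (fun _ : T A 0 => separator A) PUnit.unit ≫ ·) h2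
    simp only [Sigma.ι_desc, comp_zero] at h4
    simpa using h4

end

variable (A) in
/-- Codes for small complexes. -/
structure Code where
  s : ℤ → Shrink.{v} (Subobject (Dinf A))
  d : ∀ n, cokernel ((equivShrink _).symm (s n)).arrow ⟶
    cokernel ((equivShrink _).symm (s (n + 1))).arrow
  dd : ∀ n, d n ≫ d (n + 1) = 0

instance : Small.{v} (Code A) := by
  haveI : ∀ s : ℤ → Shrink.{v} (Subobject (Dinf A)), Small.{v} (∀ n,
      cokernel ((equivShrink _).symm (s n)).arrow ⟶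
        cokernel ((equivShrink _).symm (s (n + 1))).arrow) := fun s ↦ inferInstance
  refine small_of_injective (β := Σ s : ℤ → Shrink.{v} (Subobject (Dinf A)), ∀ n,
      cokernel ((equivShrink _).symm (s n)).arrow ⟶
        cokernel ((equivShrink _).symm (s (n + 1))).arrow) (f := fun c ↦ ⟨c.s, c.d⟩) ?_
  rintro ⟨s, d, dd⟩ ⟨s', d', dd'⟩ h
  simp only [Sigma.mk.injEq] at h
  obtain ⟨rfl, h⟩ := h
  simp [eq_of_heq h]

/-- The complex of a code. -/
noncomputable def Code.cx (c : Code A) : CochainComplex A ℤ :=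
  CochainComplex.of _ c.d c.dd

lemma exists_code (Y : CochainComplex A ℤ) (hY : IsSmallCx Y) :
    ∃ c : Code A, Nonempty (c.cx ≅ Y) := by
  choose p hp using hY
  let s : ℤ → Shrink.{v} (Subobject (Dinf A)) := fun n ↦ equivShrink _ (kernelSubobject (p n))
  have hw : ∀ n, ((equivShrink _).symm (s n)).arrow ≫ p n = 0 := fun n ↦ by
    simp only [s]
    rw [Equiv.symm_apply_apply]
    exact kernelSubobject_arrow_comp _
  have e : ∀ n, IsIso (cokernel.desc _ (p n) (hw n)) := fun n ↦ by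
    haveI : Epi (cokernel.desc _ (p n) (hw n)) :=
      epi_of_epi_fac (cokernel.π_desc _ (p n) (hw n))
    haveI : Mono (cokernel.desc _ (p n) (hw n)) := by
      refine Preadditive.mono_of_cancel_zero _ fun {Z} z hz ↦ ?_
      obtain ⟨Z', π, hπ, x, hx⟩ := surjective_up_to_refinements_of_epi (cokernel.π _) z
      have hxp : x ≫ p n = 0 := by
        rw [← cokernel.π_desc _ (p n) (hw n), ← reassoc_of% hx, hz, comp_zero]
      have heq : (equivShrink _).symm (s n) = kernelSubobject (p n) := Equiv.symm_apply_apply _ _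
      have hfac : ((equivShrink _).symm (s n)).Factors x := by
        rw [heq]; exact kernelSubobject_factors _ x hxp
      rw [← cancel_epi π, hx, comp_zero, ← Subobject.factorThru_arrow _ _ hfac, Category.assoc,
        cokernel.condition, comp_zero]
    exact isIso_of_mono_of_epi _
  let E : ∀ n, cokernel ((equivShrink _).symm (s n)).arrow ≅ Y.X n := fun n ↦
    haveI := e n; asIso (cokernel.desc _ (p n) (hw n))
  refine ⟨⟨s, fun n ↦ (E n).hom ≫ Y.d n (n + 1) ≫ (E (n + 1)).inv, fun n ↦ by simp⟩,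
    ⟨HomologicalComplex.Hom.isoOfComponents E ?_⟩⟩
  intro a b h
  obtain rfl : a + 1 = b := h
  simp [Code.cx]

end Groth.Agent.Resolve
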