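import Groth.Agent.Resolve.Factor
import Groth.Agent.Resolve.SmallAcyclic
import Mathlib.CategoryTheory.Abelian.GrothendieckCategory.Subobject
import Mathlib.CategoryTheory.SmallObject.TransfiniteCompositionLifting
import Mathlib.Order.TransfiniteIteration

/-!
K-injective resolutions in Grothendieck abelian categories, functorially in the complex.
-/

set_option backward.isDefEq.respectTransparency false
set_option backward.defeqAttrib.useBackward true

universe v u

open CategoryTheory Limits MorphismProperty ZeroObject CochainComplex HomComplex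

namespace Groth.Agent.Resolve

open DerCat

variable {A : Type u} [Category.{v} A] [Abelian A]

/-- The map of disks attached to a map. -/
noncomputable def diskMap {X Y : A} (j : X ⟶ Y) (m : ℤ) : disk X m ⟶ disk Y m :=
  HomologicalComplex.mkHomFromDouble (rel_succ m) (by lia)
    (j ≫ (HomologicalComplex.doubleXIso₀ (𝟙 Y) (rel_succ m)).inv)
    (j ≫ (HomologicalComplex.doubleXIso₁ (𝟙 Y) (rel_succ m) (by lia)).inv)
    (by simp [HomologicalComplex.double_d _ _ (show m ≠ m + 1 by lia)])
    (fun k _ ↦ by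
      rw [HomologicalComplex.double_d_eq_zero₀ _ _ _ _ (show m + 1 ≠ m by lia), comp_zero])

lemma diskMap_f₀ {X Y : A} (j : X ⟶ Y) (m : ℤ) :
    (diskMap j m).f m = (HomologicalComplex.doubleXIso₀ (𝟙 X) (rel_succ m)).hom ≫ j ≫
      (HomologicalComplex.doubleXIso₀ (𝟙 Y) (rel_succ m)).inv :=
  HomologicalComplex.mkHomFromDouble_f₀ ..

lemma diskMap_f₁ {X Y : A} (j : X ⟶ Y) (m : ℤ) :
    (diskMap j m).f (m + 1) =
      (HomologicalComplex.doubleXIso₁ (𝟙 X) (rel_succ m) (by lia)).hom ≫ j ≫
      (HomologicalComplex.doubleXIso₁ (𝟙 Y) (rel_succ m) (by lia)).inv :=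
  HomologicalComplex.mkHomFromDouble_f₁ ..

instance {X Y : A} (j : X ⟶ Y) [Mono j] (m : ℤ) : Mono (diskMap j m) := by
  haveI : ∀ n, Mono ((diskMap j m).f n) := by
    intro n
    by_cases hn : n = m ∨ n = m + 1
    · rcases hn with rfl | rfl
      · rw [diskMap_f₀]; infer_instance
      · rw [diskMap_f₁]; infer_instance
    · push Not at hn
      exact ⟨fun _ _ _ ↦ (HomologicalComplex.isZero_double_X _ _ n hn.1 hn.2).eq_of_tgt _ _⟩
  exact HomologicalComplex.mono_of_mono_f _ inferInstance

lemma mono_inr_id (K : CochainComplex A ℤ) :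
    Mono (HomologicalComplex.homotopyCofiber.inr (𝟙 K)) := by
  haveI : ∀ n, Mono ((HomologicalComplex.homotopyCofiber.inr (𝟙 K)).f n) := fun n ↦
    haveI : IsSplitMono ((HomologicalComplex.homotopyCofiber.inr (𝟙 K)).f n) := IsSplitMono.mk'
      ⟨HomologicalComplex.homotopyCofiber.sndX (𝟙 K) n, by simp⟩
    inferInstance
  exact HomologicalComplex.mono_of_mono_f _ inferInstance

/-- The extension property used to detect injective terms. -/
lemma exists_extends_disk {N : CochainComplex A ℤ} {X Y : A} (j : X ⟶ Y) (m : ℤ)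
    (h : ∀ g : disk X m ⟶ N, ∃ g', diskMap j m ≫ g' = g) (g : X ⟶ N.X m) :
    ∃ g' : Y ⟶ N.X m, j ≫ g' = g := by
  let φ₀ : disk X m ⟶ N := HomologicalComplex.mkHomFromDouble (rel_succ m) (by lia) g
    (g ≫ N.d m (m + 1)) (by simp) (fun k _ ↦ by simp)
  have h₀ : φ₀.f m = (HomologicalComplex.doubleXIso₀ (𝟙 X) (rel_succ m)).hom ≫ g :=
    HomologicalComplex.mkHomFromDouble_f₀ ..
  obtain ⟨ψ, hψ⟩ := h φ₀
  refine ⟨(HomologicalComplex.doubleXIso₀ (𝟙 Y) (rel_succ m)).inv ≫ ψ.f m, ?_⟩
  rw [← hψ, HomologicalComplex.comp_f, diskMap_f₀] at h₀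
  rw [← cancel_epi (HomologicalComplex.doubleXIso₀ (𝟙 X) (rel_succ m)).hom, ← h₀]
  simp only [Category.assoc]

lemma isSmallCx_of_iso [IsGrothendieckAbelian.{v} A] {Y Y' : CochainComplex A ℤ} (e : Y ≅ Y')
    (h : IsSmallCx Y) : IsSmallCx Y' := fun n ↦ by
  obtain ⟨p, hp⟩ := h n
  haveI : IsIso (e.hom.f n) :=
    inferInstanceAs (IsIso ((HomologicalComplex.eval A (ComplexShape.up ℤ) n).map e.hom))
  exact ⟨p ≫ e.hom.f n, epi_comp _ _⟩

lemma acyclic_of_iso {Y Y' : CochainComplex A ℤ} (e : Y ≅ Y') (h : Y.Acyclic) : Y'.Acyclic :=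
  fun n ↦ (HomologicalComplex.exactAt_iff_isZero_homology _ _).2
    ((h n).isZero_homology.of_iso ((HomologicalComplex.homologyFunctor A _ n).mapIso e).symm)

lemma acyclic_shift (C : CochainComplex A ℤ) (h : C.Acyclic) (a : ℤ) : (C⟦a⟧).Acyclic := by
  rw [← HomotopyCategory.quotient_obj_mem_subcategoryAcyclic_iff_acyclic] at h ⊢
  exact ObjectProperty.prop_of_iso _
    (((HomotopyCategory.quotient A (.up ℤ)).commShiftIso a).symm.app C)
    ((HomotopyCategory.subcategoryAcyclic A).le_shift a _ h)

variable [IsGrothendieckAbelian.{v} A]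

/-- Maps from small acyclic complexes are null-homotopic. -/
def Good (N : CochainComplex A ℤ) : Prop :=
  ∀ C : CochainComplex A ℤ, C.Acyclic → IsSmallCx C → ∀ f : C ⟶ N, Nonempty (Homotopy f 0)

lemma Good.eq_δ {N : CochainComplex A ℤ} (hN : Good N) {C : CochainComplex A ℤ} (hC : C.Acyclic)
    (hs : IsSmallCx C) (z : Cocycle C N 1) : ∃ α : Cochain C N 0, δ 0 1 α = z.1 := by
  obtain ⟨φ, hφ⟩ := (Cocycle.equivHom ..).surjective (z.leftShift (-1) 0 (by lia))
  rw [Cocycle.ext_iff] at hφ
  dsimp at hφ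
  obtain ⟨h⟩ := hN (C⟦(-1 : ℤ)⟧) (acyclic_shift C hC _) (fun n ↦ hs _) φ
  obtain ⟨f, hf⟩ := Cochain.equivHomotopy _ _ h
  simp only [Int.reduceNeg, Cochain.ofHom_zero, add_zero] at hf
  refine ⟨(-1 : ℤ).negOnePow • f.leftUnshift 0 (by lia), ?_⟩
  apply (Cochain.leftShiftAddEquiv C N 1 (-1) 0 (by lia)).injective
  dsimp
  rw [← hφ, hf, δ_units_smul, Cochain.leftShift_units_smul,
    Cochain.δ_leftUnshift (n' := -1) f 0 (by lia) 1 0 (by lia)]
  simp [smul_smul]

section Induction

variable {M : CochainComplex A ℤ} (hM : M.Acyclic)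

/-- The successor steps of the induction. -/
def NiceStep (S S' : Subobject M) (h : S ≤ S') : Prop :=
  (cokernel (Subobject.ofLE S S' h)).Acyclic ∧ IsSmallCx (cokernel (Subobject.ofLE S S' h))

include hM in
lemma exists_next (S : Subobject M) (hS : (S : CochainComplex A ℤ).Acyclic) (hne : S ≠ ⊤) :
    ∃ (S' : Subobject M) (h : S < S'), (S' : CochainComplex A ℤ).Acyclic ∧ NiceStep S S' h.le := by
  have hQ : (cokernel S.arrow).Acyclic := acyclic_cokernel _ hS hM
  have hQ0 : ¬ IsZero (cokernel S.arrow) := fun h ↦ by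
    haveI : Epi S.arrow := Abelian.epi_of_cokernel_π_eq_zero _ (h.eq_of_tgt _ _)
    exact hne ((Subobject.isIso_arrow_iff_eq_top S).1 (isIso_of_mono_of_epi _))
  obtain ⟨Y, i, hi, hY, hYs, hY0⟩ := exists_small_sub hQ hQ0
  let S' : Subobject M := Subobject.mk (pullback.fst (cokernel.π S.arrow) i)
  let g : (S' : CochainComplex A ℤ) ⟶ Y :=
    (Subobject.underlyingIso _).hom ≫ pullback.snd (cokernel.π S.arrow) i
  have hgi : g ≫ i = S'.arrow ≫ cokernel.π S.arrow := by
    simp only [g, S', Category.assoc]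
    rw [← pullback.condition, ← Category.assoc, Subobject.underlyingIso_hom_comp_eq_mk]
  have hle : S ≤ S' := Subobject.le_mk_of_comm
    (pullback.lift S.arrow 0 (by rw [cokernel.condition, zero_comp])) (pullback.lift_fst _ _ _)
  let j := Subobject.ofLE S S' hle
  have hjg : j ≫ g = 0 := by
    rw [← cancel_mono i, zero_comp, Category.assoc, hgi, Subobject.ofLE_arrow_assoc,
      cokernel.condition]
  haveI : Epi g := epi_comp _ _
  have hex : (ShortComplex.mk j g hjg).Exact := by
    rw [ShortComplex.exact_iff_exact_up_to_refinements]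
    intro T x hx
    change x ≫ g = 0 at hx
    have h1 : (x ≫ S'.arrow) ≫ cokernel.π S.arrow = 0 := by
      rw [Category.assoc, ← hgi, reassoc_of% hx, zero_comp]
    obtain ⟨T', π, hπ, y, hy⟩ := (ShortComplex.exact_of_g_is_cokernel
      (ShortComplex.mk S.arrow (cokernel.π S.arrow) (cokernel.condition _))
      (cokernelIsCokernel _)).exact_up_to_refinements _ h1
    refine ⟨T', π, hπ, y, ?_⟩
    change π ≫ x = y ≫ j
    rw [← cancel_mono S'.arrow, Category.assoc, hy, Category.assoc, Subobject.ofLE_arrow]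
  have hse : (ShortComplex.mk j g hjg).ShortExact := { exact := hex }
  have hlt : S < S' := hle.lt_of_ne fun h ↦ by
    haveI : IsIso j := by
      refine ⟨Subobject.ofLE S' S h.symm.le, ?_, ?_⟩ <;> simp [j]
    haveI : Mono (0 : Y ⟶ Y) := by
      exact ⟨fun a b _ ↦ by
        have hg0 : g = 0 := by rw [← cancel_epi j, hjg, comp_zero]
        have : 𝟙 Y = 0 := by rw [← cancel_epi g, hg0, zero_comp, zero_comp]
        exact ((IsZero.iff_id_eq_zero Y).2 this).eq_of_tgt a b⟩
    exact hY0 ((IsZero.iff_id_eq_zero Y).2 (by rw [← cancel_mono (0 : Y ⟶ Y), comp_zero, comp_zero]))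
  refine ⟨S', hlt, fun n ↦ ?_, ?_, ?_⟩
  · rw [HomologicalComplex.exactAt_iff_isZero_homology]
    exact (hse.homology_exact₂ n).isZero_of_both_zeros ((hS n).isZero_homology.eq_of_src _ _)
      ((hY n).isZero_homology.eq_of_tgt _ _)
  · exact acyclic_of_iso (IsColimit.coconePointUniqueUpToIso hse.gIsCokernel
      (colimit.isColimit (parallelPair j 0))) hY
  · exact isSmallCx_of_iso (IsColimit.coconePointUniqueUpToIso hse.gIsCokernel
      (colimit.isColimit (parallelPair j 0))) hYs

open Classical in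
/-- The successor function. -/
noncomputable def next (S : Subobject M) : Subobject M :=
  if h : (S : CochainComplex A ℤ).Acyclic ∧ S ≠ ⊤ then (exists_next hM S h.1 h.2).choose else ⊤

lemma next_top : next hM (⊤ : Subobject M) = ⊤ := dif_neg (fun h ↦ h.2 rfl)

lemma lt_next (S : Subobject M) (hS : S ≠ ⊤) : S < next hM S := by
  by_cases h : (S : CochainComplex A ℤ).Acyclic
  · rw [next, dif_pos ⟨h, hS⟩]
    exact (exists_next hM S h hS).choose_spec.choose
  · rw [next, dif_neg (fun h' ↦ h h'.1)]
    exact lt_top_iff_ne_top.2 hS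

lemma le_next (S : Subobject M) : S ≤ next hM S := by
  by_cases hS : S = ⊤
  · rw [hS, next_top]
  · exact (lt_next hM S hS).le

lemma acyclic_next (S : Subobject M) (h : (S : CochainComplex A ℤ).Acyclic) :
    (next hM S : CochainComplex A ℤ).Acyclic := by
  by_cases hS : S = ⊤
  · subst hS
    rwa [next_top]
  · rw [next, dif_pos ⟨h, hS⟩]
    exact (exists_next hM S h hS).choose_spec.choose_spec.1

lemma acyclic_of_isColimit {J : Type v} [SmallCategory J] [IsFiltered J]
    (F : J ⥤ CochainComplex A ℤ) (c : Cocone F) (hc : IsColimit c)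
    (h : ∀ j, (F.obj j).Acyclic) : c.pt.Acyclic := by
  intro n
  rw [c.pt.exactAt_iff' (n - 1) n (n + 1) (by simp) (by simp)]
  let S : ShortComplex (J ⥤ A) := ShortComplex.mk
    (Functor.whiskerLeft F (HomologicalComplex.dNatTrans A (ComplexShape.up ℤ) (n - 1) n))
    (Functor.whiskerLeft F (HomologicalComplex.dNatTrans A (ComplexShape.up ℤ) n (n + 1)))
    (by ext j; simp)
  have hS : S.Exact := by
    rw [S.exact_iff_isZero_homology]
    refine Functor.isZero _ fun j ↦ ?_
    refine IsZero.of_iso ?_ (S.mapHomologyIso ((evaluation J A).obj j)).symm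
    rw [← ShortComplex.exact_iff_isZero_homology]
    exact ((F.obj j).exactAt_iff' (n - 1) n (n + 1) (by simp) (by simp)).1 (h j n)
  let hk := fun k ↦ isColimitOfPreserves (HomologicalComplex.eval A (ComplexShape.up ℤ) k) hc
  refine (ShortComplex.exact_iff_of_iso ?_).1 (hS.map colim)
  refine ShortComplex.isoMk ((colimit.isColimit _).coconePointUniqueUpToIso (hk (n - 1)))
    ((colimit.isColimit _).coconePointUniqueUpToIso (hk n))
    ((colimit.isColimit _).coconePointUniqueUpToIso (hk (n + 1))) ?_ ?_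
  all_goals
    refine colimit.hom_ext fun j ↦ ?_
    simp [S]

variable (S₀ : Subobject M) (hS₀ : (S₀ : CochainComplex A ℤ).Acyclic)
  (J : Type v) [LinearOrder J] [OrderBot J] [SuccOrder J] [WellFoundedLT J]

/-- The chain of subobjects. -/
@[simps]
noncomputable def chainMonoOver : J ⥤ MonoOver M where
  obj j := MonoOver.mk (transfiniteIterate (next hM) j S₀).arrow
  map {j j'} f := MonoOver.homMk (Subobject.ofLE _ _
      (monotone_transfiniteIterate _ _ (le_next hM) (leOfHom f)))

/-- The chain of complexes. -/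
noncomputable abbrev chain : J ⥤ CochainComplex A ℤ :=
  chainMonoOver hM S₀ J ⋙ MonoOver.forget _ ⋙ Over.forget _

/-- The colimit cocone at a limit step. -/
noncomputable def chainIsColimit (m : J) (hm : Order.IsSuccLimit m) :
    IsColimit ((Set.principalSegIio m).cocone (chain hM S₀ J)) := by
  have := hm.nonempty_Iio.to_subtype
  let c := (Set.principalSegIio m).cocone (chainMonoOver hM S₀ J ⋙ MonoOver.forget _)
  have : Mono c.pt.hom := by dsimp [c, chainMonoOver]; infer_instance
  apply IsGrothendieckAbelian.isColimitMapCoconeOfSubobjectMkEqISup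
    ((Set.principalSegIio m).monotone.functor ⋙ chainMonoOver hM S₀ J) c
  dsimp [c, chainMonoOver]
  simp only [Subobject.mk_arrow]
  exact transfiniteIterate_limit (next hM) S₀ m hm

instance : (chain hM S₀ J).IsWellOrderContinuous where
  nonempty_isColimit m hm := ⟨chainIsColimit hM S₀ J m hm⟩

include hS₀ in
lemma acyclic_chain (j : J) : ((chain hM S₀ J).obj j).Acyclic := by
  induction j using SuccOrder.limitRecOn with
  | isMin j hj =>
    obtain rfl := hj.eq_bot
    change ((transfiniteIterate (next hM) (⊥ : J) S₀ : Subobject M) : CochainComplex A ℤ).Acyclic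
    rwa [transfiniteIterate_bot]
  | succ j hj ih =>
    change ((transfiniteIterate (next hM) (Order.succ j) S₀ : Subobject M) :
      CochainComplex A ℤ).Acyclic
    rw [transfiniteIterate_succ _ _ _ hj]
    exact acyclic_next hM _ ih
  | isSuccLimit j hj ih =>
    have := hj.nonempty_Iio.to_subtype
    exact acyclic_of_isColimit _ _ (chainIsColimit hM S₀ J j hj) fun k ↦ ih k.1 k.2

end Induction

/-- Maps to a good complex with injective terms extend along monomorphisms of acyclic
complexes. -/
lemma exists_extends_of_acyclic {N : CochainComplex A ℤ} (hN : ∀ n, Injective (N.X n))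
    (hg : Good N) {K M : CochainComplex A ℤ} (i : K ⟶ M) [Mono i] (hK : K.Acyclic)
    (hM : M.Acyclic) (f : K ⟶ N) : ∃ g : M ⟶ N, i ≫ g = f := by
  let W : MorphismProperty (CochainComplex A ℤ) :=
    (MorphismProperty.ofHoms (fun _ : PUnit.{v + 1} ↦ (0 : N ⟶ 0))).llp
  have hW : ∀ {X Y : CochainComplex A ℤ} (a : X ⟶ Y),
      (∀ φ : X ⟶ N, ∃ ψ, a ≫ ψ = φ) → W a := by
    intro X Y a ha _ _ _ hp
    obtain ⟨⟩ := hp
    refine ⟨fun {φ _} sq ↦ ?_⟩
    obtain ⟨ψ, hψ⟩ := ha φ
    exact ⟨⟨{ l := ψ, fac_left := hψ, fac_right := (isZero_zero _).eq_of_tgt _ _ }⟩⟩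
  let S₀ := Subobject.mk i
  have hS₀ : (S₀ : CochainComplex A ℤ).Acyclic := acyclic_of_iso (Subobject.underlyingIso i).symm hK
  let κ := Order.succ (Cardinal.mk (Shrink.{v} (Subobject M)))
  let J := κ.ord.ToType
  haveI : Nonempty J := by simp [J, κ]
  letI := WellFoundedLT.toOrderBot J
  obtain ⟨j, hj⟩ : ∃ j : J, transfiniteIterate (next hM) j S₀ = ⊤ :=
    top_mem_range_transfiniteIterate (next hM) S₀ (lt_next hM) (next_top hM)
      (fun h ↦ by
        have h1 : HasCardinalLT (Subobject M) (Cardinal.mk J) := by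
          rw [← hasCardinalLT_iff_of_equiv (equivShrink _).symm]
          exact lt_of_lt_of_le (Order.lt_succ _) (by simp [J, κ])
        simpa [hasCardinalLT_iff_cardinal_mk_lt] using h1.of_injective _ h)
  let T : W.TransfiniteCompositionOfShape (Set.Iic j)
      ((chain hM S₀ J).map (homOfLE bot_le : ⊥ ⟶ j)) :=
    { F := (Set.initialSegIic j).monotone.functor ⋙ chain hM S₀ J
      isoBot := Iso.refl _
      incl :=
        { app k := (chain hM S₀ J).map (homOfLE k.2)
          naturality k k' h := by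
            simp }
      isColimit := colimitOfDiagramTerminal isTerminalTop _
      fac := by simp
      map_mem k hk := by
        dsimp [chainMonoOver, MonoOver.forget]
        set a := transfiniteIterate (next hM) k.1 S₀ with ha
        suffices H : ∀ b, b = next hM a → ∀ h : a ≤ b, W (Subobject.ofLE a b h) from
          H _ (by rw [Set.Iic.succ_eq_of_not_isMax hk,
            transfiniteIterate_succ _ _ _ (Set.not_isMax_coe _ hk)]) _
        rintro b rfl h
        refine hW _ fun φ ↦ ?_
        by_cases hS : a = ⊤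
        · have : IsIso (Subobject.ofLE a (next hM a) h) := by
            refine ⟨Subobject.ofLE (next hM a) a (by rw [hS, next_top]), ?_, ?_⟩ <;> simp
          exact ⟨inv (Subobject.ofLE a (next hM a) h) ≫ φ, IsIso.hom_inv_id_assoc _ _⟩
        · have hac : (a : CochainComplex A ℤ).Acyclic := acyclic_chain hM S₀ hS₀ J k.1
          have hn : NiceStep a (next hM a) h := by
            have e : next hM a = (exists_next hM a hac hS).choose := dif_pos ⟨hac, hS⟩
            have key := (exists_next hM a hac hS).choose_spec.choose_spec.2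
            revert h
            rw [e]
            exact fun _ ↦ key
          exact exists_extension_of_cocycle N hN
            (ShortComplex.mk (Subobject.ofLE a (next hM a) h) (cokernel.π _) (cokernel.condition _))
            { exact := ShortComplex.exact_of_g_is_cokernel _ (cokernelIsCokernel _) }
            (fun z ↦ hg.eq_δ hn.1 hn.2 z) φ }
  have hT : W ((chain hM S₀ J).map (homOfLE bot_le : ⊥ ⟶ j)) :=
    MorphismProperty.transfiniteCompositionsOfShape_le _ _ _ T.mem
  haveI := (Subobject.isIso_arrow_iff_eq_top (transfiniteIterate (next hM) j S₀)).2 hj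
  have hi : W i := by
    refine (W.arrow_mk_iso_iff ?_).1 hT
    refine Arrow.isoMk ((Subobject.isoOfEq _ _ (transfiniteIterate_bot _ _)) ≪≫
      Subobject.underlyingIso i) (asIso (transfiniteIterate (next hM) j S₀).arrow) ?_
    dsimp [chainMonoOver, MonoOver.forget]
    rw [Category.assoc, Subobject.underlyingIso_hom_comp_eq_mk, Subobject.ofLE_arrow,
      Subobject.ofLE_arrow]
  haveI := hi (0 : N ⟶ 0) ⟨PUnit.unit⟩
  have sq : CommSq f i (0 : N ⟶ 0) 0 := ⟨(isZero_zero _).eq_of_tgt _ _⟩
  exact ⟨sq.lift, sq.fac_left⟩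

/-- A good complex with injective terms is K-injective. -/
lemma isKInjective_of_good {N : CochainComplex A ℤ} (hN : ∀ n, Injective (N.X n)) (hg : Good N) :
    N.IsKInjective := by
  refine ⟨fun {K} f hK ↦ ?_⟩
  haveI := mono_inr_id K
  obtain ⟨e, he⟩ := exists_extends_of_acyclic hN hg
    (HomologicalComplex.homotopyCofiber.inr (𝟙 K)) hK (acyclic_cofiber_id K) f
  exact nullHomotopic_of_extends f e he

lemma injective_of_extends_disk {N : CochainComplex A ℤ} (m : ℤ)
    (h : ∀ S : Subobject (separator A), ∀ g : disk (S : A) m ⟶ N, ∃ g', diskMap S.arrow m ≫ g' = g) :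
    Injective (N.X m) := by
  rw [injective_iff_rlp_monomorphisms_zero,
    ← IsGrothendieckAbelian.generatingMonomorphisms_rlp (isSeparator_separator A)]
  rintro _ _ _ ⟨S⟩
  refine ⟨fun {g _} sq ↦ ?_⟩
  obtain ⟨g', hg'⟩ := exists_extends_disk S.arrow m (h S) g
  exact ⟨⟨{ l := g', fac_left := hg', fac_right := (isZero_zero _).eq_of_tgt _ _ }⟩⟩

variable (A) in
/-- A functorial embedding by monomorphic quasi-isomorphisms into complexes with injective terms. -/
theorem exists_functorial_injective :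
    ∃ (N : CochainComplex A ℤ ⥤ CochainComplex A ℤ) (j : 𝟭 _ ⟶ N),
      ∀ M, Mono (j.app M) ∧ QuasiIso (j.app M) ∧ ∀ n, Injective ((N.obj M).X n) := by
  let ι := Shrink.{v} (ℤ × Subobject (separator A))
  let e : ι → ℤ × Subobject (separator A) := (equivShrink _).symm
  obtain ⟨N, j, h⟩ := exists_functorial_embedding (fun i : ι ↦ diskMap (e i).2.arrow (e i).1)
    (fun i ↦ acyclic_cokernel _ (acyclic_disk _ _) (acyclic_disk _ _))
  refine ⟨N, j, fun M ↦ ⟨(h M).1, (h M).2.1, fun n ↦ injective_of_extends_disk n fun S g ↦ ?_⟩⟩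
  obtain ⟨i, hi⟩ := (equivShrink (ℤ × Subobject (separator A))).symm.surjective (n, S)
  have key := (h M).2.2 i
  change ∀ g : disk ((e i).2 : A) (e i).1 ⟶ _, ∃ h, diskMap (e i).2.arrow (e i).1 ≫ h = g at key
  rw [show e i = (n, S) from hi] at key
  exact key g

variable (A) in
/-- Functorial K-injective resolutions with injective terms. -/
theorem exists_functorial_resolution :
    ∃ (N : CochainComplex A ℤ ⥤ CochainComplex A ℤ) (j : 𝟭 _ ⟶ N),
      ∀ M, (∀ n, Mono ((j.app M).f n)) ∧ QuasiIso (j.app M) ∧ (N.obj M).IsKInjective ∧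
        ∀ n, Injective ((N.obj M).X n) := by
  let ι := Shrink.{v} ((ℤ × Subobject (separator A)) ⊕ {c : Code A // c.cx.Acyclic})
  let e : ι → _ := (equivShrink ((ℤ × Subobject (separator A)) ⊕
    {c : Code A // c.cx.Acyclic})).symm
  let X : (ℤ × Subobject (separator A)) ⊕ {c : Code A // c.cx.Acyclic} → CochainComplex A ℤ :=
    Sum.elim (fun p ↦ disk (p.2 : A) p.1) (fun c ↦ c.1.cx)
  let Y : (ℤ × Subobject (separator A)) ⊕ {c : Code A // c.cx.Acyclic} → CochainComplex A ℤ :=
    Sum.elim (fun p ↦ disk (separator A) p.1)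
      (fun c ↦ HomologicalComplex.homotopyCofiber (𝟙 c.1.cx))
  let f : ∀ s, X s ⟶ Y s := fun s ↦ match s with
    | .inl p => diskMap p.2.arrow p.1
    | .inr c => HomologicalComplex.homotopyCofiber.inr (𝟙 c.1.cx)
  haveI hf : ∀ s, Mono (f s) := fun s ↦ match s with
    | .inl p => inferInstanceAs (Mono (diskMap p.2.arrow p.1))
    | .inr c => mono_inr_id c.1.cx
  haveI : ∀ i : ι, Mono (f (e i)) := fun i ↦ hf _
  obtain ⟨N, j, h⟩ := exists_functorial_embedding (fun i : ι ↦ f (e i)) (fun i ↦ by
    haveI := hf (e i)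
    refine acyclic_cokernel _ ?_ ?_
    · cases e i with
      | inl p => exact acyclic_disk _ _
      | inr c => exact c.2
    · cases e i with
      | inl p => exact acyclic_disk _ _
      | inr c => exact acyclic_cofiber_id _)
  refine ⟨N, j, fun M ↦ ?_⟩
  obtain ⟨hmono, hq, hext⟩ := h M
  have hext' : ∀ s, ∀ g : X s ⟶ N.obj M, ∃ g', f s ≫ g' = g := fun s ↦ by
    obtain ⟨i, hi⟩ := (equivShrink _).symm.surjective s
    have key := hext i
    change ∀ g : X (e i) ⟶ _, ∃ h, f (e i) ≫ h = g at key
    rwa [show e i = s from hi] at key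
  have hinj : ∀ n, Injective ((N.obj M).X n) := fun n ↦
    injective_of_extends_disk n fun S g ↦ hext' (.inl (n, S)) g
  have hgood : Good (N.obj M) := fun C hC hs g ↦ by
    obtain ⟨c, ⟨u⟩⟩ := exists_code C hs
    obtain ⟨g', hg'⟩ := hext' (.inr ⟨c, acyclic_of_iso u.symm hC⟩) (u.hom ≫ g)
    obtain ⟨h⟩ := nullHomotopic_of_extends (u.hom ≫ g) g' hg'
    exact ⟨(Homotopy.ofEq (u.inv_hom_id_assoc g).symm).trans
      ((h.compLeft u.inv).trans (Homotopy.ofEq comp_zero))⟩
  haveI := hmono
  exact ⟨fun n ↦ inferInstanceAs (Mono ((HomologicalComplex.eval A _ n).map (j.app M))), hq,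
    isKInjective_of_good hinj hgood, hinj⟩

end Groth.Agent.Resolve
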