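import Groth.Agent.DerCat.KInjLib
import Mathlib.Algebra.Homology.GrothendieckAbelian
import Mathlib.CategoryTheory.Abelian.GrothendieckCategory.EnoughInjectives
import Mathlib.CategoryTheory.SmallObject.Basic

/-!
Small object factorizations for a small family of monomorphisms with acyclic cokernels.
-/

universe v u w

open CategoryTheory Limits MorphismProperty ZeroObject

namespace Groth.Agent.Resolve

section

variable {C : Type u} [Category.{v} C] [Abelian C] [IsGrothendieckAbelian.{w} C]

/-- A small family of monomorphisms permits the small object argument. -/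
lemma hasSmallObjectArgument_ofHoms {ι : Type w} {X Y : ι → C} (f : ∀ i, X i ⟶ Y i)
    [∀ i, Mono (f i)] : HasSmallObjectArgument.{w} (MorphismProperty.ofHoms f) := by
  obtain ⟨κ, hκ', hκ⟩ := HasCardinalLT.exists_regular_cardinal_forall.{w}
    (fun i ↦ Subobject (X i))
  have : Fact κ.IsRegular := ⟨hκ'⟩
  have : Nonempty κ.ord.ToType := by simpa using hκ'.ne_zero
  have := WellFoundedLT.toOrderBot κ.ord.ToType
  have hle : MorphismProperty.ofHoms f ≤ monomorphisms C := by
    rintro _ _ _ ⟨i⟩
    exact inferInstanceAs (Mono (f i))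
  exact ⟨κ, inferInstance, inferInstance,
    { preservesColimit {A B X' Y'} i hi g hg := by
        let hg' : (monomorphisms C).TransfiniteCompositionOfShape κ.ord.ToType g :=
          { toTransfiniteCompositionOfShape := hg.toTransfiniteCompositionOfShape
            map_mem j hj := by
              have := (hg.attachCells j hj).pushouts_coproducts
              simp only [ofHoms_homFamily] at this
              refine (?_ : _ ≤ monomorphisms C) _ this
              simp only [pushouts_le_iff, coproducts_le_iff]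
              exact hle }
        have (j j' : κ.ord.ToType) (φ : j ⟶ j') : Mono (hg'.F.map φ) := hg'.mem_map φ
        obtain ⟨S⟩ := hi
        exact IsGrothendieckAbelian.preservesColimit_coyoneda_obj_of_mono (Y := hg'.F) (κ := κ)
          (hκ S) }⟩

end

variable {A : Type u} [Category.{v} A] [Abelian A]

open DerCat

/-- The map to the disk attached to a map in the upper degree. -/
noncomputable def toSingle (E : A) (m : ℤ) :
    disk E m ⟶ (HomologicalComplex.single A (ComplexShape.up ℤ) m).obj E :=
  HomologicalComplex.mkHomFromDouble _ (by lia)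
    (HomologicalComplex.singleObjXSelf (ComplexShape.up ℤ) m E).inv 0
    (by simp) (by simp)

lemma rel_succ (m : ℤ) : (ComplexShape.up ℤ).Rel m (m + 1) := rfl

/-- A map into a disk. -/
noncomputable def homToDisk {K : CochainComplex A ℤ} {E : A} (m : ℤ) (w : K.X (m + 1) ⟶ E) :
    K ⟶ disk E m where
  f k :=
    if hk : k = m then (eqToHom (by rw [hk]) : K.X k ⟶ K.X m) ≫ K.d m (m + 1) ≫ w ≫
      (HomologicalComplex.doubleXIso₀ (𝟙 E) (rel_succ m)).inv ≫
        (eqToHom (by rw [hk]) : (disk E m).X m ⟶ (disk E m).X k)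
    else if hk' : k = m + 1 then (eqToHom (by rw [hk']) : K.X k ⟶ K.X (m + 1)) ≫ w ≫
      (HomologicalComplex.doubleXIso₁ (𝟙 E) (rel_succ m) (by lia)).inv ≫
        (eqToHom (by rw [hk']) : (disk E m).X (m + 1) ⟶ (disk E m).X k)
    else 0
  comm' a b hab := by
    obtain rfl : a + 1 = b := hab
    by_cases ha : a = m
    · subst ha
      simp only [dif_pos, dif_neg (show a + 1 ≠ a by lia), eqToHom_refl, Category.id_comp,
        Category.assoc]
      erw [HomologicalComplex.double_d (𝟙 E) (rel_succ a) (show a ≠ a + 1 by lia)]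
      simp
    · rw [dif_neg ha, HomologicalComplex.double_d_eq_zero₀ _ _ _ _ ha, comp_zero]
      by_cases hb : a + 1 = m
      · subst hb
        simp
      · rw [dif_neg hb, dif_neg (by lia), comp_zero]

lemma homToDisk_f {K : CochainComplex A ℤ} {E : A} (m : ℤ) (w : K.X (m + 1) ⟶ E) :
    (homToDisk m w).f m = K.d m (m + 1) ≫ w ≫
      (HomologicalComplex.doubleXIso₀ (𝟙 E) (rel_succ m)).inv := by
  simp [homToDisk]

lemma toSingle_f (E : A) (m : ℤ) :
    (toSingle E m).f m = (HomologicalComplex.doubleXIso₀ (𝟙 E) _).hom ≫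
      (HomologicalComplex.singleObjXSelf (ComplexShape.up ℤ) m E).inv :=
  HomologicalComplex.mkHomFromDouble_f₀ ..

/-- `disk E m ⟶ single E` lifts against monomorphisms with acyclic cokernels. -/
lemma hasLiftingProperty_toSingle (E : A) [Injective E] (m : ℤ) {K L : CochainComplex A ℤ}
    (i : K ⟶ L) [Mono i] (hi : (cokernel i).Acyclic) :
    HasLiftingProperty i (toSingle E m) := by
  refine ⟨fun {f g} sq ↦ ?_⟩
  have hne : m ≠ m + 1 := by lia
  haveI : CochainComplex.IsStrictlyGE (disk E m) m := by
    rw [CochainComplex.isStrictlyGE_iff]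
    exact fun k hk ↦ HomologicalComplex.isZero_double_X _ _ k (by lia) (by lia)
  haveI hinj : ∀ n, Injective ((disk E m).X n) := fun n ↦ by
    by_cases h₀ : n = m
    · subst h₀; exact Injective.of_iso (HomologicalComplex.doubleXIso₀ (𝟙 E) _).symm inferInstance
    · by_cases h₁ : n = m + 1
      · subst h₁
        exact Injective.of_iso (HomologicalComplex.doubleXIso₁ (𝟙 E) _ hne).symm inferInstance
      · exact ⟨fun _ _ _ ↦ ⟨0, (HomologicalComplex.isZero_double_X _ _ n h₀ h₁).eq_of_tgt _ _⟩⟩
  haveI : (disk E m).IsKInjective := CochainComplex.isKInjective_of_injective _ m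
  let S : ShortComplex (CochainComplex A ℤ) := ShortComplex.mk i (cokernel.π i) (cokernel.condition i)
  have hS : S.ShortExact := { exact := ShortComplex.exact_of_g_is_cokernel _ (cokernelIsCokernel i) }
  obtain ⟨ψ, hψ⟩ := exists_extension_of_isKInjective (disk E m) hinj S hS hi f
  replace hψ : i ≫ ψ = f := hψ
  let e := cokernel.desc i (g - ψ ≫ toSingle E m) (by
    rw [Preadditive.comp_sub, reassoc_of% hψ, sq.w, sub_self])
  let z : (cokernel i).X m ⟶ E :=
    e.f m ≫ (HomologicalComplex.singleObjXSelf (ComplexShape.up ℤ) m E).hom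
  have hz : (cokernel i).d (m - 1) m ≫ z = 0 := by
    simp [z, ← e.comm_assoc]
  have hex := hi m
  rw [HomologicalComplex.exactAt_iff' _ (m - 1) m (m + 1) (by simp) (by simp)] at hex
  obtain ⟨w, hw⟩ : ∃ w : (cokernel i).X (m + 1) ⟶ E, (cokernel i).d m (m + 1) ≫ w = z :=
    ⟨hex.descToInjective z hz, hex.comp_descToInjective z hz⟩
  have he : homToDisk m w ≫ toSingle E m = e := by
    refine HomologicalComplex.to_single_hom_ext ?_
    rw [HomologicalComplex.comp_f, homToDisk_f, toSingle_f]
    simp [reassoc_of% hw, z]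
  exact ⟨⟨{ l := ψ + cokernel.π i ≫ homToDisk m w
            fac_left := by simp [hψ]
            fac_right := by simp [he, e] }⟩⟩

variable [IsGrothendieckAbelian.{v} A]

/-- Maps which lift against all `disk E m ⟶ single E` have acyclic cokernel. -/
lemma acyclic_cokernel_of_lifting {K L : CochainComplex A ℤ} (i : K ⟶ L) [Mono i]
    (h : ∀ (E : A) [Injective E] (m : ℤ), HasLiftingProperty i (toSingle E m)) :
    (cokernel i).Acyclic := by
  intro m
  rw [HomologicalComplex.exactAt_iff' _ (m - 1) m (m + 1) (by simp) (by simp),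
    ShortComplex.exact_iff_exact_up_to_refinements]
  intro T x hx
  let Q := cokernel i
  let E := Injective.under (cokernel (Q.d (m - 1) m))
  let z : Q.X m ⟶ E := cokernel.π (Q.d (m - 1) m) ≫ Injective.ι _
  have hz : Q.d (m - 1) m ≫ z = 0 := by simp [z]
  let e : Q ⟶ (HomologicalComplex.single A (ComplexShape.up ℤ) m).obj E :=
    HomologicalComplex.mkHomToSingle z (fun k hk ↦ by
      obtain rfl : k = m - 1 := by simp at hk; lia
      exact hz)
  haveI := h E m
  have sq : CommSq (0 : K ⟶ disk E m) i (toSingle E m) (cokernel.π i ≫ e) := ⟨by simp⟩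
  let l : L ⟶ disk E m := sq.lift
  let l' : Q ⟶ disk E m := cokernel.desc i l sq.fac_left
  have hl : l' ≫ toSingle E m = e := by
    rw [← cancel_epi (cokernel.π i)]
    simp [l', l]
  have h1 : z = Q.d m (m + 1) ≫ l'.f (m + 1) ≫ (HomologicalComplex.doubleXIso₁ (𝟙 E) _ (by lia)).hom := by
    have h2 := HomologicalComplex.congr_hom hl m
    rw [HomologicalComplex.comp_f, toSingle_f] at h2
    simp only [e, HomologicalComplex.mkHomToSingle_f, ← Category.assoc] at h2
    rw [cancel_mono] at h2
    rw [← h2, ← l'.comm_assoc, HomologicalComplex.double_d (h := show m ≠ m + 1 by lia)]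
    simp
  have hxz : x ≫ z = 0 := by
    rw [h1]
    exact (Category.assoc _ _ _).symm.trans ((congrArg (· ≫ _) hx).trans zero_comp)
  have hx' : x ≫ cokernel.π (Q.d (m - 1) m) = 0 := by
    rw [← cancel_mono (Injective.ι (cokernel (Q.d (m - 1) m))), zero_comp, Category.assoc]
    exact hxz
  exact (ShortComplex.exact_of_g_is_cokernel
    (ShortComplex.mk _ (cokernel.π (Q.d (m - 1) m)) (cokernel.condition _))
    (cokernelIsCokernel _)).exact_up_to_refinements x hx'

/-- A monomorphism with acyclic cokernel is a quasi-isomorphism. -/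
lemma quasiIso_of_acyclic_cokernel {K L : CochainComplex A ℤ} (i : K ⟶ L) [Mono i]
    (h : (cokernel i).Acyclic) : QuasiIso i := by
  have hS : (ShortComplex.mk i (cokernel.π i) (cokernel.condition i)).ShortExact :=
    { exact := ShortComplex.exact_of_g_is_cokernel _ (cokernelIsCokernel i) }
  rw [quasiIso_iff]
  intro n
  rw [quasiIsoAt_iff_isIso_homologyMap]
  haveI : Mono (HomologicalComplex.homologyMap i n) :=
    (hS.homology_exact₁ (n - 1) n (by simp)).mono_g ((h (n - 1)).isZero_homology.eq_of_src _ _)
  haveI : Epi (HomologicalComplex.homologyMap i n) :=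
    (hS.homology_exact₂ n).epi_f ((h n).isZero_homology.eq_of_tgt _ _)
  exact isIso_of_mono_of_epi _

/-- Functorial factorization attached to a small family of monomorphisms with acyclic cokernel:
a functorial monomorphic quasi-isomorphism to an object with the right lifting property. -/
theorem exists_functorial_embedding {ι : Type v} {X Y : ι → CochainComplex A ℤ}
    (f : ∀ i, X i ⟶ Y i) [∀ i, Mono (f i)] (hf : ∀ i, (cokernel (f i)).Acyclic) :
    ∃ (N : CochainComplex A ℤ ⥤ CochainComplex A ℤ) (j : 𝟭 _ ⟶ N),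
      ∀ M, Mono (j.app M) ∧ QuasiIso (j.app M) ∧
        ∀ (i : ι) (g : X i ⟶ N.obj M), ∃ h : Y i ⟶ N.obj M, f i ≫ h = g := by
  let W := MorphismProperty.ofHoms f
  haveI : HasSmallObjectArgument.{v} W := hasSmallObjectArgument_ofHoms f
  let data := functorialFactorizationData W.rlp.llp W.rlp
  let F : CochainComplex A ℤ ⥤ Arrow (CochainComplex A ℤ) :=
    { obj := fun M ↦ Arrow.mk (0 : M ⟶ (0 : CochainComplex A ℤ))
      map := fun φ ↦ Arrow.homMk φ (𝟙 _) (by simp)
      map_id := fun M ↦ by ext <;> rfl
      map_comp := fun φ ψ ↦ by ext <;> simp }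
  refine ⟨F ⋙ data.Z,
    { app := fun M ↦ data.i.app (F.obj M)
      naturality := fun M M' φ ↦ data.i.naturality (F.map φ) }, fun M ↦ ?_⟩
  have hi : W.rlp.llp (data.i.app (F.obj M)) := data.hi _
  have hle : W ≤ MorphismProperty.monomorphisms _ := by
    rintro _ _ _ ⟨i⟩
    exact inferInstanceAs (Mono (f i))
  have hmono : Mono (data.i.app (F.obj M)) := by
    have h1 : (MorphismProperty.monomorphisms (CochainComplex A ℤ)).rlp.llp (data.i.app (F.obj M)) :=
      antitone_llp (antitone_rlp hle) _ hi
    rwa [IsGrothendieckAbelian.llp_rlp_monomorphisms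
      (isSeparator_separator (CochainComplex A ℤ))] at h1
  refine ⟨hmono, ?_, fun i g ↦ ?_⟩
  · haveI := hmono
    refine quasiIso_of_acyclic_cokernel (data.i.app (F.obj M))
      (acyclic_cokernel_of_lifting (data.i.app (F.obj M)) fun E _ m ↦ hi _ ?_)
    rintro _ _ _ ⟨i⟩
    exact hasLiftingProperty_toSingle E m (f i) (hf i)
  · haveI := data.hp (F.obj M) _ ⟨i⟩
    have sq : CommSq g (f i) (data.p.app (F.obj M)) 0 := ⟨(isZero_zero _).eq_of_tgt _ _⟩
    exact ⟨sq.lift, sq.fac_left⟩

end Groth.Agent.Resolve
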