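import Mathlib.CategoryTheory.Abelian.GrothendieckCategory.Subobject
import Mathlib.CategoryTheory.Abelian.GrothendieckAxioms.Basic
import Mathlib.CategoryTheory.Abelian.Refinements
import Mathlib.CategoryTheory.Abelian.FunctorCategory
import Mathlib.CategoryTheory.Abelian.Images
import Mathlib.CategoryTheory.Subobject.NoetherianObject
import Mathlib.CategoryTheory.Adjunction.Limits
import Mathlib.Data.Fintype.EquivFin
import Mathlib.CategoryTheory.Limits.Preserves.Filtered
import Mathlib.CategoryTheory.Functor.ReflectsIso.Balanced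
import Mathlib.Algebra.Homology.ShortComplex.PreservesHomology

/-!
Grothendieck categories and noetherian objects along a faithful exact left adjoint whose right
adjoint commutes with filtered colimits.
-/

set_option backward.isDefEq.respectTransparency false
set_option backward.defeqAttrib.useBackward true

universe w u₁ u₂

open CategoryTheory Limits

namespace Groth.Agent.Resolve.GrothLift

section Noeth

variable {A : Type u₁} [Category.{w} A] [Abelian A]

lemma imageSubobject_le_of_fac {X X' Y : A} {f : X ⟶ Y} {f' : X' ⟶ Y} (h : X ⟶ X')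
    (w : h ≫ f' = f) : imageSubobject f ≤ imageSubobject f' := by
  subst w
  exact imageSubobject_comp_le h f'

lemma factors_of_fac {Z Y : A} {P : Subobject Y} {f : Z ⟶ Y} (g : Z ⟶ (P : A))
    (h : g ≫ P.arrow = f) : P.Factors f :=
  h ▸ Subobject.factors_comp_arrow g

lemma le_of_refinement {Y : A} {S T : Subobject Y}
    (h : ∀ ⦃Z : A⦄ (x : Z ⟶ Y), S.Factors x → ∃ (Z' : A) (π : Z' ⟶ Z), Epi π ∧ T.Factors (π ≫ x)) :
    S ≤ T := by
  obtain ⟨Z', π, hπ, hT⟩ := h S.arrow (Subobject.factors_self S)
  have h0 : S.arrow ≫ cokernel.π T.arrow = 0 := by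
    rw [← cancel_epi π, comp_zero, ← Category.assoc, ← Subobject.factorThru_arrow _ _ hT,
      Category.assoc, cokernel.condition, comp_zero]
  exact Subobject.le_of_comm (Abelian.monoLift T.arrow S.arrow h0) (Abelian.monoLift_comp _ _ _)

lemma isNoetherianObject_of_shortExact {X Y Z : A} (i : X ⟶ Y) (g : Y ⟶ Z) (w : i ≫ g = 0)
    (hS : (ShortComplex.mk i g w).Exact) [Mono i] [IsNoetherianObject X] [IsNoetherianObject Z] :
    IsNoetherianObject Y := by
  rw [isNoetherianObject_iff_monotone_chain_condition]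
  intro f
  have hmono : Monotone fun n ↦ imageSubobject ((f n).arrow ≫ g) := fun a b hab ↦ by
    exact imageSubobject_le_of_fac (Subobject.ofLE (f a) (f b) (f.2 hab)) (by simp)
  obtain ⟨n₁, h₁⟩ := monotone_chain_condition_of_isNoetherianObject
    ⟨fun n ↦ (Subobject.pullback i).obj (f n), fun a b hab ↦
      (Subobject.pullback i).monotone (f.2 hab)⟩
  obtain ⟨n₂, h₂⟩ := monotone_chain_condition_of_isNoetherianObject ⟨_, hmono⟩
  refine ⟨max n₁ n₂, fun m hm ↦ le_antisymm (f.2 hm) (le_of_refinement fun T x hx ↦ ?_)⟩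
  set N := max n₁ n₂ with hN
  have e₁ : (Subobject.pullback i).obj (f m) = (Subobject.pullback i).obj (f N) :=
    (h₁ m (le_trans (le_max_left _ _) hm)).symm.trans (h₁ N (le_max_left _ _))
  have e₂ : imageSubobject ((f m).arrow ≫ g) = imageSubobject ((f N).arrow ≫ g) :=
    (h₂ m (le_trans (le_max_right _ _) hm)).symm.trans (h₂ N (le_max_right _ _))
  have hfac : (imageSubobject ((f N).arrow ≫ g)).Factors (x ≫ g) := by
    rw [← e₂, ← Subobject.factorThru_arrow _ _ hx, Category.assoc]
    exact Subobject.factors_of_factors_right _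
      (factors_of_fac (factorThruImageSubobject _) (imageSubobject_arrow_comp _))
  obtain ⟨T₁, π, hπ, y, hy⟩ := surjective_up_to_refinements_of_epi
    (factorThruImageSubobject ((f N).arrow ≫ g)) (Subobject.factorThru _ _ hfac)
  have hy' : π ≫ x ≫ g = y ≫ (f N).arrow ≫ g := by
    rw [← Subobject.factorThru_arrow _ _ hfac, reassoc_of% hy, imageSubobject_arrow_comp]
  obtain ⟨T₂, π', hπ', z, hz⟩ := hS.exact_up_to_refinements (π ≫ x - y ≫ (f N).arrow)
    (by simp [Preadditive.sub_comp, Category.assoc, hy'])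
  have hdiff : (f m).Factors (z ≫ i) := by
    change (f m).Factors (z ≫ (ShortComplex.mk i g w).f)
    rw [← hz]
    refine Subobject.factors_of_factors_right _ ?_
    refine factors_of_fac (π ≫ Subobject.factorThru _ _ hx -
      y ≫ Subobject.ofLE (f N) (f m) (f.2 hm)) ?_
    simp [Preadditive.sub_comp]
  have hN' : (f N).Factors (z ≫ i) := by
    have hp := Subobject.isPullback i (f m)
    have hz' : ((Subobject.pullback i).obj (f N)).Factors z := by
      rw [← e₁]
      exact factors_of_fac (hp.lift (Subobject.factorThru _ _ hdiff) z (by simp))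
        (hp.lift_snd _ _ _)
    refine factors_of_fac (Subobject.factorThru _ _ hz' ≫ Subobject.pullbackπ i (f N)) ?_
    rw [Category.assoc, (Subobject.isPullback i (f N)).w, Subobject.factorThru_arrow_assoc]
  refine ⟨T₂, π' ≫ π, epi_comp _ _, ?_⟩
  have : (π' ≫ π) ≫ x = z ≫ i + (π' ≫ y) ≫ (f N).arrow := by
    change π' ≫ _ = z ≫ i at hz
    rw [← hz]
    simp [Preadditive.comp_sub]
  rw [this]
  exact Subobject.factors_add _ _ hN' (Subobject.factors_comp_arrow _)

lemma isNoetherianObject_of_epi {Y Z : A} (p : Y ⟶ Z) [Epi p] [IsNoetherianObject Y] :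
    IsNoetherianObject Z := by
  have hle : ∀ S T : Subobject Z, (Subobject.pullback p).obj S ≤ (Subobject.pullback p).obj T →
      S ≤ T := fun S T h ↦ le_of_refinement fun W x hx ↦ by
    obtain ⟨W', π, hπ, y, hy⟩ := surjective_up_to_refinements_of_epi p x
    have hp := Subobject.isPullback p S
    have hyS : ((Subobject.pullback p).obj S).Factors y :=
      (Subobject.factors_iff _ _).2 ⟨hp.lift (π ≫ Subobject.factorThru _ _ hx) y (by simp [hy]),
        hp.lift_snd _ _ _⟩
    have hyT := Subobject.factors_of_le y h hyS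
    refine ⟨W', π, hπ, factors_of_fac (Subobject.factorThru _ _ hyT ≫ Subobject.pullbackπ p T) ?_⟩
    rw [Category.assoc, (Subobject.isPullback p T).w, Subobject.factorThru_arrow_assoc, hy]
  rw [isNoetherianObject_iff_monotone_chain_condition]
  intro f
  obtain ⟨n, hn⟩ := monotone_chain_condition_of_isNoetherianObject
    ⟨fun n ↦ (Subobject.pullback p).obj (f n), fun a b hab ↦
      (Subobject.pullback p).monotone (f.2 hab)⟩
  exact ⟨n, fun m hm ↦ le_antisymm (f.2 hm) (hle _ _ (hn m hm).ge)⟩

lemma isNoetherianObject_sigma : ∀ (n : ℕ) (s : Fin n → A), (∀ i, IsNoetherianObject (s i)) →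
    IsNoetherianObject (∐ s) := by
  intro n
  induction n with
  | zero =>
    exact fun s _ ↦ isNoetherianObject_of_isZero ((IsZero.iff_id_eq_zero _).2
      (Sigma.hom_ext _ _ fun i ↦ i.elim0))
  | succ n ih =>
    intro s hs
    haveI := hs 0
    haveI := ih (fun i ↦ s i.succ) (fun i ↦ hs _)
    let α := Sigma.ι s 0
    haveI : IsNoetherianObject (Abelian.image α) :=
      isNoetherianObject_of_epi (Abelian.factorThruImage α)
    let g := cokernel.π (Abelian.image.ι α)
    let q := (Sigma.desc fun i : Fin n ↦ Sigma.ι s i.succ) ≫ g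
    haveI : Epi q := Preadditive.epi_of_cancel_zero _ fun h hh ↦ by
      rw [← cancel_epi g, comp_zero]
      refine Sigma.hom_ext _ _ fun i ↦ ?_
      rw [comp_zero]
      induction i using Fin.cases with
      | zero =>
        have := Abelian.image.fac α
        calc α ≫ g ≫ h = Abelian.factorThruImage α ≫ (Abelian.image.ι α ≫ g) ≫ h := by
              rw [Category.assoc, ← Category.assoc (Abelian.factorThruImage α), this]
          _ = 0 := by simp [g]
      | succ i =>
        have := congrArg (Sigma.ι (fun i : Fin n ↦ s i.succ) i ≫ ·) hh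
        simpa [q] using this
    haveI : IsNoetherianObject (cokernel (Abelian.image.ι α)) := isNoetherianObject_of_epi q
    exact isNoetherianObject_of_shortExact _ g (cokernel.condition _)
      (ShortComplex.exact_of_g_is_cokernel _ (cokernelIsCokernel _))

end Noeth

variable {A : Type u₁} [Category.{w} A] [Abelian A] [HasColimitsOfSize.{w, w} A]
  {B : Type u₂} [Category.{w} B] [Abelian B] [IsGrothendieckAbelian.{w} B]
  (F : A ⥤ B) (G : B ⥤ A) (adj : F ⊣ G) [F.Additive] [F.Faithful]
  [PreservesFiniteLimits F] [PreservesFiniteColimits F] [PreservesFilteredColimitsOfSize.{w, w} G]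

include adj in
lemma ab5 : AB5OfSize.{w, w} A := by
  haveI : PreservesColimitsOfSize.{w, w} F := adj.leftAdjoint_preservesColimits
  haveI : F.ReflectsIsomorphisms := reflectsIsomorphisms_of_reflectsMonomorphisms_of_reflectsEpimorphisms F
  haveI : ReflectsFiniteLimits F := ⟨fun J _ _ ↦ reflectsLimitsOfShape_of_reflectsIsomorphisms⟩
  exact ⟨fun J _ _ ↦ HasExactColimitsOfShape.domain_of_functor J F⟩

include adj in
lemma small_subobject (a : A) : Small.{w} (Subobject a) := by
  refine small_of_injective (f := fun S : Subobject a ↦ Subobject.mk (F.map S.arrow)) fun S T h ↦ ?_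
  have hle : ∀ S T : Subobject a, Subobject.mk (F.map S.arrow) = Subobject.mk (F.map T.arrow) →
      S ≤ T := fun S T h ↦ by
    have h0 : S.arrow ≫ cokernel.π T.arrow = 0 := by
      refine F.map_injective ?_
      rw [F.map_comp, F.map_zero, ← Subobject.ofMkLEMk_comp h.le, Category.assoc, ← F.map_comp,
        cokernel.condition, F.map_zero, comp_zero]
    exact Subobject.le_of_comm (Abelian.monoLift T.arrow S.arrow h0) (Abelian.monoLift_comp _ _ _)
  exact le_antisymm (hle S T h) (hle T S h.symm)

/-- The pieces by which the objects of `A` are exhausted. -/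
def Piece {ι : Type w} (s : ι → B) (P : A) : Prop :=
  ∃ (n : ℕ) (j : Fin n → ι) (Q : B) (p : (∐ fun i ↦ s (j i)) ⟶ Q) (_ : Epi p) (u : P ⟶ G.obj Q),
    Mono u ∧ Mono (F.map u ≫ adj.counit.app Q)

variable {ι : Type w} (s : ι → B)
  (hsep : ∀ ⦃X Y : B⦄ (f g : X ⟶ Y), (∀ (i : ι) (h : s i ⟶ X), h ≫ f = h ≫ g) → f = g)

include hsep in
/-- Every object is exhausted by a directed family of pieces. -/
lemma exists_pieces (a : A) :
    ∃ (K : Type w) (_ : SemilatticeSup K) (_ : OrderBot K) (P : K → Subobject a), Monotone P ∧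
      (∀ k, Piece F G adj s (P k : A)) ∧
      ∀ ⦃y : A⦄ (f : a ⟶ y), (∀ k, (P k).arrow ≫ f = 0) → f = 0 := by
  classical
  haveI := ab5 F G adj
  let I := Σ i, (s i ⟶ F.obj a)
  let d : ∀ J : Finset I, (∐ fun t : J ↦ s t.1.1) ⟶ F.obj a := fun J ↦ Sigma.desc fun t ↦ t.1.2
  let Qs : Finset I → Subobject (F.obj a) := fun J ↦ imageSubobject (d J)
  have hQs : Monotone Qs := fun J J' h ↦ by
    exact imageSubobject_le_of_fac
      (Sigma.desc fun t : J ↦ Sigma.ι (fun t : J' ↦ s t.1.1) ⟨t.1, h t.2⟩)
      (Sigma.hom_ext _ _ fun t ↦ by simp [d])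
  let Km : Finset I ⥤ MonoOver (F.obj a) := hQs.functor ⋙ Subobject.representative
  let Kb : Finset I ⥤ B := Km ⋙ MonoOver.forget _ ⋙ Over.forget _
  let cb : Cocone Kb := ⟨F.obj a, { app := fun J ↦ (Qs J).arrow
                                    naturality := fun J J' f ↦ by
                                      refine Eq.trans ?_ (Category.comp_id _).symm
                                      exact Over.w (Km.map f).hom }⟩
  let φ := colimit.desc Kb cb
  haveI : Mono φ := IsGrothendieckAbelian.mono_of_isColimit_monoOver Km (colimit.isColimit Kb) φ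
    (fun J ↦ colimit.ι_desc cb J)
  haveI : Epi φ := Preadditive.epi_of_cancel_zero _ fun h hh ↦ by
    refine hsep h 0 fun i g ↦ ?_
    rw [comp_zero]
    have h1 : (Qs {⟨i, g⟩}).arrow ≫ h = 0 := by
      have := colimit.ι Kb {⟨i, g⟩} ≫= hh
      simpa [φ, cb] using this
    have h2 : d {⟨i, g⟩} ≫ h = 0 := by
      rw [← imageSubobject_arrow_comp (d {⟨i, g⟩}), Category.assoc]
      exact (congrArg (factorThruImageSubobject _ ≫ ·) h1).trans comp_zero
    have h3 := Sigma.ι (fun t : ({⟨i, g⟩} : Finset I) ↦ s t.1.1) ⟨⟨i, g⟩, by simp⟩ ≫= h2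
    simpa [d] using h3
  haveI : IsIso φ := isIso_of_mono_of_epi φ
  haveI : IsIso ((colimit.isColimit Kb).desc cb) := inferInstanceAs (IsIso φ)
  have hcb : IsColimit cb := IsColimit.ofPointIso (colimit.isColimit Kb)
  have hGc : IsColimit (G.mapCocone cb) := isColimitOfPreserves G hcb
  let η : a ⟶ G.obj (F.obj a) := adj.unit.app a
  haveI : Mono η := inferInstance
  let α : Kb ⋙ G ⟶ (Functor.const _).obj (cokernel η) :=
    (G.mapCocone cb).ι ≫ (Functor.const _).map (cokernel.π η)
  let Pk : Finset I → A := fun J ↦ (kernel α).obj J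
  let ka : ∀ J, Pk J ⟶ G.obj (Kb.obj J) := fun J ↦ (kernel.ι α).app J
  have hka : ∀ J, ka J ≫ G.map (Qs J).arrow ≫ cokernel.π η = 0 := fun J ↦
    NatTrans.congr_app (kernel.condition α) J
  have hkamono : ∀ J, Mono (ka J) := fun J ↦
    inferInstanceAs (Mono (((evaluation _ A).obj J).map (kernel.ι α)))
  let l : ∀ J, Pk J ⟶ a := fun J ↦ Abelian.monoLift η (ka J ≫ G.map (Qs J).arrow)
    (by rw [Category.assoc, hka])
  have hl : ∀ J, l J ≫ η = ka J ≫ G.map (Qs J).arrow := fun J ↦ Abelian.monoLift_comp _ _ _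
  haveI : G.IsRightAdjoint := ⟨F, ⟨adj⟩⟩
  have hlmono : ∀ J, Mono (l J) := fun J ↦ by
    haveI := hkamono J
    exact mono_of_mono_fac (hl J)
  haveI := hlmono
  have hP : Monotone fun J ↦ Subobject.mk (l J) := fun J J' h ↦ by
    refine Subobject.mk_le_mk_of_comm ((kernel α).map (homOfLE h)) ?_
    rw [← cancel_mono η, Category.assoc, hl, hl]
    have h1 : (kernel α).map (homOfLE h) ≫ ka J' = ka J ≫ G.map (Kb.map (homOfLE h)) :=
      (kernel.ι α).naturality (homOfLE h)
    rw [reassoc_of% h1, ← G.map_comp]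
    congr 2
    exact Over.w (Km.map (homOfLE h)).hom
  refine ⟨Finset I, inferInstance, inferInstance, fun J ↦ Subobject.mk (l J), hP,
    fun J ↦ ?_, fun y f hf ↦ ?_⟩
  · let e := J.equivFin.symm
    let u : ((Subobject.mk (l J) : Subobject a) : A) ⟶ G.obj (Kb.obj J) :=
      (Subobject.underlyingIso (l J)).hom ≫ ka J
    haveI := hkamono J
    let p : (∐ fun i : Fin J.card ↦ s (e i).1.1) ⟶ Kb.obj J :=
      (Sigma.desc fun i ↦ Sigma.ι (fun t : J ↦ s t.1.1) (e i)) ≫ factorThruImageSubobject (d J)
    haveI : Epi (Sigma.desc fun i ↦ Sigma.ι (fun t : J ↦ s t.1.1) (e i)) :=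
      Preadditive.epi_of_cancel_zero _ fun h hh ↦ Sigma.hom_ext _ _ fun t ↦ by
        obtain ⟨i, rfl⟩ := e.surjective t
        have := Sigma.ι (fun i : Fin J.card ↦ s (e i).1.1) i ≫= hh
        simpa using this
    refine ⟨J.card, fun i ↦ (e i).1.1, Kb.obj J, p, epi_comp _ _, u, inferInstance, ?_⟩
    have hfac : (F.map u ≫ adj.counit.app (Kb.obj J)) ≫ (Qs J).arrow =
        F.map (Subobject.mk (l J)).arrow := by
      have h2 := adj.counit.naturality (Qs J).arrow
      dsimp at h2
      rw [Category.assoc]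
      refine (congrArg (F.map u ≫ ·) h2.symm).trans ?_
      rw [← Category.assoc, ← F.map_comp]
      simp only [u, Category.assoc, ← hl]
      rw [← Category.assoc, Subobject.underlyingIso_hom_comp_eq_mk, F.map_comp, Category.assoc]
      simp [η]
    exact mono_of_mono_fac hfac
  · let S : ShortComplex (Finset I ⥤ A) := ShortComplex.mk (kernel.ι α) α (kernel.condition α)
    have hS : S.Exact := ShortComplex.exact_of_f_is_kernel _ (kernelIsKernel α)
    have hS' := hS.map (colim : (Finset I ⥤ A) ⥤ A)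
    let c : colimit (Kb ⋙ G) ≅ G.obj (F.obj a) :=
      (colimit.isColimit _).coconePointUniqueUpToIso hGc
    let c₀ : Cocone ((Functor.const (Finset I)).obj (cokernel η)) := ⟨cokernel η, 𝟙 _⟩
    have hδ : colimit.desc _ c₀ ≫ colimit.ι ((Functor.const (Finset I)).obj (cokernel η)) ∅ =
        𝟙 _ := by
      refine colimit.hom_ext fun k ↦ ?_
      refine (colimit.ι_desc_assoc c₀ k _).trans ?_
      simpa [c₀] using (colimit.w ((Functor.const (Finset I)).obj (cokernel η))
        (homOfLE (Finset.empty_subset k))).symm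
    have e : colimMap α ≫ colimit.desc _ c₀ = c.hom ≫ cokernel.π η := by
      refine colimit.hom_ext fun k ↦ ?_
      rw [ι_colimMap_assoc, colimit.comp_coconePointUniqueUpToIso_hom_assoc]
      exact (congrArg (α.app k ≫ ·) (colimit.ι_desc c₀ k)).trans (Category.comp_id _)
    have h0 : (η ≫ c.inv) ≫ colimMap α = 0 := by
      have h1 : (η ≫ c.inv) ≫ colimMap α ≫ colimit.desc _ c₀ = 0 := by simp [e]
      have h2 := h1 =≫ colimit.ι ((Functor.const (Finset I)).obj (cokernel η)) ∅
      simp only [Category.assoc, zero_comp] at h2 ⊢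
      rwa [hδ, Category.comp_id] at h2
    obtain ⟨T, π, hπ, x, hx⟩ := hS'.exact_up_to_refinements (η ≫ c.inv) h0
    replace hx : π ≫ η ≫ c.inv = x ≫ colimMap (kernel.ι α) := hx
    have hw : (colimMap (kernel.ι α) ≫ c.hom) ≫ cokernel.π η = 0 := by
      rw [Category.assoc, ← e]
      refine colimit.hom_ext fun k ↦ ?_
      rw [ι_colimMap_assoc, ι_colimMap_assoc, comp_zero]
      have := NatTrans.congr_app (kernel.condition α) k
      exact (Category.assoc _ _ _).symm.trans ((congrArg (· ≫ _) this).trans zero_comp)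
    let θ : colimit (kernel α) ⟶ a := Abelian.monoLift η _ hw
    have hθ : θ ≫ η = colimMap (kernel.ι α) ≫ c.hom := Abelian.monoLift_comp _ _ _
    have hθf : θ ≫ f = 0 := by
      refine colimit.hom_ext fun k ↦ ?_
      rw [comp_zero, ← Category.assoc]
      have : colimit.ι (kernel α) k ≫ θ = l k := by
        rw [← cancel_mono η, Category.assoc, hθ, hl, ι_colimMap_assoc,
          colimit.comp_coconePointUniqueUpToIso_hom]
        rfl
      rw [this, ← Subobject.underlyingIso_arrow (l k), Category.assoc, hf, comp_zero]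
    have hπθ : π = x ≫ θ := by
      rw [← cancel_mono η, ← cancel_mono c.inv]
      simp [hθ, hx]
    rw [← cancel_epi π, comp_zero, hπθ, Category.assoc, hθf, comp_zero]

lemma Piece.isNoetherianObject (hsN : ∀ i, IsNoetherianObject (s i)) {P : A}
    (h : Piece F G adj s P) : IsNoetherianObject P ∧ IsNoetherianObject (F.obj P) := by
  obtain ⟨n, j, Q, p, hp, u, hu, hFu⟩ := h
  haveI := isNoetherianObject_sigma n (fun i ↦ s (j i)) (fun i ↦ hsN _)
  haveI := isNoetherianObject_of_epi p
  haveI : IsNoetherianObject ((𝟭 B).obj Q) := inferInstanceAs (IsNoetherianObject Q)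
  haveI := isNoetherianObject_of_mono (F.map u ≫ adj.counit.app Q)
  exact ⟨isNoetherianObject_of_map F P, inferInstance⟩
where
  isNoetherianObject_of_map (F : A ⥤ B) [F.Faithful] [F.Additive] [PreservesFiniteLimits F]
      (a : A) [IsNoetherianObject (F.obj a)] : IsNoetherianObject a := by
    rw [isNoetherianObject_iff_monotone_chain_condition]
    intro f
    obtain ⟨n, hn⟩ := monotone_chain_condition_of_isNoetherianObject
      ⟨fun n ↦ Subobject.mk (F.map (f n).arrow), fun a b hab ↦
        Subobject.mk_le_mk_of_comm (F.map (Subobject.ofLE _ _ (f.2 hab)))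
          (by rw [← F.map_comp, Subobject.ofLE_arrow])⟩
    refine ⟨n, fun m hm ↦ le_antisymm (f.2 hm) ?_⟩
    have h := (hn m hm).ge
    have h0 : (f m).arrow ≫ cokernel.π (f n).arrow = 0 := by
      refine F.map_injective ?_
      rw [F.map_comp, F.map_zero, ← Subobject.ofMkLEMk_comp h, Category.assoc, ← F.map_comp,
        cokernel.condition, F.map_zero, comp_zero]
    exact Subobject.le_of_comm _ (Abelian.monoLift_comp _ _ h0)

/-- Codes for pieces. -/
structure PieceCode where
  n : ℕ
  j : Fin n → ι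
  S : Subobject (∐ fun i ↦ s (j i))
  P : Subobject (G.obj (cokernel S.arrow))
  hP : Mono (F.map P.arrow ≫ adj.counit.app (cokernel S.arrow))

/-- The piece of a code. -/
noncomputable def PieceCode.obj (c : PieceCode F G adj s) : A := (c.P : A)

lemma PieceCode.small : Small.{w} (PieceCode F G adj s) := by
  haveI : ∀ a : A, Small.{w} (Subobject a) := small_subobject F G adj
  refine small_of_injective (β := Σ (n : ℕ) (j : Fin n → ι)
    (S : Subobject (∐ fun i ↦ s (j i))), Subobject (G.obj (cokernel S.arrow)))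
    (f := fun c ↦ ⟨c.n, c.j, c.S, c.P⟩) ?_
  rintro ⟨n, j, S, P, h⟩ ⟨n', j', S', P', h'⟩ e
  cases e
  rfl

lemma PieceCode.piece (c : PieceCode F G adj s) : Piece F G adj s (c.obj F G adj s) :=
  ⟨c.n, c.j, _, cokernel.π c.S.arrow, inferInstance, c.P.arrow, inferInstance, c.hP⟩

lemma exists_pieceCode {P : A} (hP : Piece F G adj s P) :
    ∃ c : PieceCode F G adj s, Nonempty (c.obj F G adj s ≅ P) := by
  haveI : G.IsRightAdjoint := ⟨F, ⟨adj⟩⟩
  obtain ⟨n, j, Q, p, hp, u, hu, hFu⟩ := hP
  have hw : (kernelSubobject p).arrow ≫ p = 0 := kernelSubobject_arrow_comp p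
  let ν := cokernel.desc _ p hw
  haveI : Epi ν := epi_of_epi_fac (cokernel.π_desc _ p hw)
  haveI : Mono ν := by
    refine Preadditive.mono_of_cancel_zero _ fun {Z} z hz ↦ ?_
    obtain ⟨Z', π, hπ, x, hx⟩ := surjective_up_to_refinements_of_epi (cokernel.π _) z
    have hxp : x ≫ p = 0 := by
      rw [← cokernel.π_desc _ p hw, ← reassoc_of% hx, hz, comp_zero]
    rw [← cancel_epi π, hx, comp_zero,
      ← Subobject.factorThru_arrow _ _ (kernelSubobject_factors p x hxp), Category.assoc,
      cokernel.condition, comp_zero]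
  haveI : IsIso ν := isIso_of_mono_of_epi ν
  let u' := u ≫ G.map (inv ν)
  have hm : Mono (F.map (Subobject.mk u').arrow ≫ adj.counit.app _) := by
    have e : F.map (Subobject.mk u').arrow ≫ adj.counit.app _ =
        F.map (Subobject.underlyingIso u').hom ≫ (F.map u ≫ adj.counit.app Q) ≫ inv ν := by
      rw [← Subobject.underlyingIso_hom_comp_eq_mk u', F.map_comp, Category.assoc]
      simp only [u', F.map_comp, Category.assoc]
      exact congrArg (fun x ↦ F.map (Subobject.underlyingIso u').hom ≫ F.map u ≫ x)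
        (adj.counit.naturality (inv ν))
    rw [e]
    infer_instance
  exact ⟨⟨n, j, kernelSubobject p, Subobject.mk u', hm⟩, ⟨Subobject.underlyingIso u'⟩⟩

include hsep in
/-- A small separating family of pieces. -/
lemma exists_separating :
    ∃ (κ : Type w) (t : κ → A), (∀ k, Piece F G adj s (t k)) ∧
      ∀ ⦃X Y : A⦄ (f g : X ⟶ Y), (∀ (k : κ) (h : t k ⟶ X), h ≫ f = h ≫ g) → f = g := by
  haveI := PieceCode.small F G adj s
  refine ⟨Shrink.{w} (PieceCode F G adj s),
    fun k ↦ ((equivShrink _).symm k).obj F G adj s, fun k ↦ PieceCode.piece F G adj s _,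
    fun X Y f g hfg ↦ ?_⟩
  obtain ⟨K, _, _, P, hmon, hpiece, hP⟩ := exists_pieces F G adj s hsep X
  rw [← sub_eq_zero]
  refine hP _ fun k ↦ ?_
  obtain ⟨c, ⟨e⟩⟩ := exists_pieceCode F G adj s (hpiece k)
  obtain ⟨k', rfl⟩ := (equivShrink (PieceCode F G adj s)).symm.surjective c
  have h1 := hfg k' (e.hom ≫ (P k).arrow)
  rw [← cancel_epi e.hom, comp_zero, Preadditive.comp_sub,
    Preadditive.comp_sub, ← Category.assoc, ← Category.assoc, h1, sub_self]

include adj hsep in
lemma isGrothendieckAbelian : IsGrothendieckAbelian.{w} A := by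
  haveI := ab5 F G adj
  obtain ⟨κ, t, -, ht⟩ := exists_separating F G adj s hsep
  haveI : HasSeparator A := ⟨∐ t, fun X Y f g h ↦ ht f g fun k u ↦ by
    classical
    have h1 := h (∐ t) (by simp) (Sigma.desc fun k' ↦ if e : k' = k then eqToHom (by rw [e]) ≫ u else 0)
    simpa using Sigma.ι t k ≫= h1⟩
  exact { }

include adj hsep in
lemma isNoetherianObject_iff (hsN : ∀ i, IsNoetherianObject (s i)) (a : A) :
    IsNoetherianObject a ↔ IsNoetherianObject (F.obj a) := by
  refine ⟨fun _ ↦ ?_, fun _ ↦ Piece.isNoetherianObject.isNoetherianObject_of_map F a⟩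
  obtain ⟨K, _, _, P, hmon, hpiece, hP⟩ := exists_pieces F G adj s hsep a
  obtain ⟨S, ⟨k, rfl⟩, hmax⟩ := (wellFounded_gt (α := Subobject a)).has_min (Set.range P)
    ⟨_, ⊥, rfl⟩
  have hle : ∀ k', P k' ≤ P k := fun k' ↦ by
    have h1 : P k ≤ P (k ⊔ k') := hmon le_sup_left
    have h2 : P k = P (k ⊔ k') := (eq_or_lt_of_le h1).resolve_right (hmax _ ⟨_, rfl⟩)
    rw [h2]
    exact hmon le_sup_right
  have hepi : Epi (P k).arrow := Abelian.epi_of_cokernel_π_eq_zero _ (hP _ fun k' ↦ by
    rw [← Subobject.ofLE_arrow (hle k'), Category.assoc, cokernel.condition, comp_zero])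
  haveI := ((hpiece k).isNoetherianObject F G adj s hsN).2
  exact isNoetherianObject_of_epi (F.map (P k).arrow)

end Groth.Agent.Resolve.GrothLift

namespace Groth.Agent.Resolve.GrothLift

/-- A small separating family gives a Grothendieck abelian category. -/
lemma isGrothendieckAbelian_of_family {B : Type u₂} [Category.{w} B] [Abelian B]
    [HasColimitsOfSize.{w, w} B] [AB5OfSize.{w, w} B] {ι : Type w} (s : ι → B)
    (hsep : ∀ ⦃X Y : B⦄ (f g : X ⟶ Y), (∀ (i : ι) (h : s i ⟶ X), h ≫ f = h ≫ g) → f = g) :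
    IsGrothendieckAbelian.{w} B := by
  haveI : HasSeparator B := ⟨∐ s, fun X Y f g h ↦ hsep f g fun k u ↦ by
    classical
    have h1 := h (∐ s) (by simp) (Sigma.desc fun k' ↦ if e : k' = k then eqToHom (by rw [e]) ≫ u else 0)
    simpa using Sigma.ι s k ≫= h1⟩
  exact { }

end Groth.Agent.Resolve.GrothLift
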