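import Mathlib.CategoryTheory.Abelian.GrothendieckCategory.EnoughInjectives

/-!
Functorial injective embeddings in Grothendieck abelian categories.
-/

set_option backward.isDefEq.respectTransparency false
set_option backward.defeqAttrib.useBackward true

universe w v u

open CategoryTheory Limits ZeroObject MorphismProperty

namespace Groth.Agent.Resolve

theorem exists_functorial_injective_embedding (C : Type u) [Category.{v} C] [Abelian C]
    [IsGrothendieckAbelian.{w} C] :
    ∃ (J : C ⥤ C) (j : 𝟭 _ ⟶ J), ∀ F : C, Injective (J.obj F) ∧ Mono (j.app F) := by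
  let data := functorialFactorizationData (monomorphisms C) (monomorphisms C).rlp
  let Z : C ⥤ Arrow C :=
    { obj := fun M ↦ Arrow.mk (0 : M ⟶ (0 : C))
      map := fun φ ↦ Arrow.homMk φ (𝟙 _) (by simp)
      map_id := fun M ↦ by ext <;> rfl
      map_comp := fun φ ψ ↦ by ext <;> simp }
  refine ⟨Z ⋙ data.Z,
    { app := fun M ↦ data.i.app (Z.obj M)
      naturality := fun M M' φ ↦ data.i.naturality (Z.map φ) }, fun F ↦ ⟨?_, data.hi _⟩⟩
  show Injective (data.Z.obj (Z.obj F))
  rw [injective_iff_rlp_monomorphisms_zero]
  have h := data.hp (Z.obj F)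
  rwa [(isZero_zero C).eq_of_tgt (data.p.app (Z.obj F)) 0] at h

end Groth.Agent.Resolve
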